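import Groth.Agent.Lib.Grass.Basic

/-!
# Zariski descent for points of Grassmannians
-/

set_option autoImplicit false
universe u

open TensorProduct Module

namespace Groth.Agent.GrassLib

variable {R : Type u} [CommRing R] {M : Type u} [AddCommGroup M] [Module R M] {k : ℕ}
variable {A B : Type u} [CommRing A] [Algebra R A] [CommRing B] [Algebra R B]

lemma tm_comp {C : Type u} [CommRing C] [Algebra R C] (φ : A →ₐ[R] B) (ψ : B →ₐ[R] C)
    (v : A ⊗[R] M) : tm ψ (tm φ v) = tm (ψ.comp φ) v := by
  rw [tm, tm, tm, ← LinearMap.comp_apply, ← LinearMap.rTensor_comp]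
  rfl

variable [Algebra A B] [IsScalarTower R A B]

variable (R M A B) in
/-- `tm` as an `A`-linear map. -/
noncomputable def tmA : A ⊗[R] M →ₗ[A] B ⊗[R] M where
  toFun := tm (IsScalarTower.toAlgHom R A B)
  map_add' := map_add _
  map_smul' a v := by
    rw [tm_smul, IsScalarTower.coe_toAlgHom', RingHom.id_apply, algebraMap_smul]

lemma tmA_apply (v : A ⊗[R] M) : tmA R M A B v = tm (IsScalarTower.toAlgHom R A B) v := rfl

/-- Every element of `B ⊗ M` is, up to a power of `f`, in the image of `A ⊗ M`. -/
lemma exists_smul_eq_tm (f : A) [IsLocalization.Away f B] (w : B ⊗[R] M) :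
    ∃ (n : ℕ) (v : A ⊗[R] M), (algebraMap A B (f ^ n)) • w = tmA R M A B v := by
  induction w using TensorProduct.induction_on with
  | zero => exact ⟨0, 0, by simp⟩
  | tmul b m =>
    obtain ⟨⟨a, ⟨_, n, rfl⟩⟩, h⟩ := IsLocalization.surj (Submonoid.powers f) b
    exact ⟨n, a ⊗ₜ m, by
      simp only at h
      simp [tmA_apply, TensorProduct.smul_tmul', mul_comm, ← h]⟩
  | add p q hp hq =>
    obtain ⟨n, v, hv⟩ := hp
    obtain ⟨m, v', hv'⟩ := hq
    refine ⟨n + m, f ^ m • v + f ^ n • v', ?_⟩
    rw [map_add, map_smul, map_smul, ← hv, ← hv', smul_add, algebraMap_smul, algebraMap_smul,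
      algebraMap_smul, algebraMap_smul, smul_smul, smul_smul, ← pow_add, ← pow_add, add_comm m n]

lemma tm_mem_gmap_iff (f : A) [IsLocalization.Away f B] (N : Pt R M k A) (v : A ⊗[R] M) :
    tm (IsScalarTower.toAlgHom R A B) v ∈ (gmap (IsScalarTower.toAlgHom R A B) N).toSubmodule ↔
      ∃ n : ℕ, f ^ n • v ∈ N.toSubmodule := by
  rw [gmap_toSubmodule, LinearMap.mem_ker, baseChangeMkQ_tm]
  haveI : IsLocalizedModule (Submonoid.powers f)
      (TensorProduct.mk A B ((A ⊗[R] M) ⧸ N.toSubmodule) 1) :=
    (isLocalizedModule_iff_isBaseChange (Submonoid.powers f) B _).mpr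
      (TensorProduct.isBaseChange A _ B)
  rw [← TensorProduct.mk_apply, IsLocalizedModule.eq_zero_iff (Submonoid.powers f)]
  constructor
  · rintro ⟨⟨_, n, rfl⟩, hc⟩
    refine ⟨n, ?_⟩
    rw [← Submodule.Quotient.mk_eq_zero]
    simpa [Submonoid.smul_def] using hc
  · rintro ⟨n, hn⟩
    exact ⟨⟨f ^ n, n, rfl⟩, by
      rw [← Submodule.Quotient.mk_eq_zero] at hn
      simpa [Submonoid.smul_def] using hn⟩

omit [Algebra A B] [IsScalarTower R A B] in
/-- A point is determined by its restrictions to a cover. -/
theorem Pt.eq_of_away {s : Set A} (hs : Ideal.span s = ⊤) (N N' : Pt R M k A)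
    (h : ∀ f ∈ s, gmap (IsScalarTower.toAlgHom R A (Localization.Away f)) N =
      gmap (IsScalarTower.toAlgHom R A (Localization.Away f)) N') : N = N' := by
  have key : ∀ N N' : Pt R M k A, (∀ f ∈ s,
      gmap (IsScalarTower.toAlgHom R A (Localization.Away f)) N =
        gmap (IsScalarTower.toAlgHom R A (Localization.Away f)) N') →
      N.toSubmodule ≤ N'.toSubmodule := by
    intro N N' h v hv
    refine Submodule.mem_of_span_eq_top_of_smul_pow_mem _ s hs v fun r => ?_
    refine (tm_mem_gmap_iff (B := Localization.Away r.1) r.1 N' v).mp ?_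
    rw [← h r.1 r.2]
    exact tm_mem_gmap _ hv
  exact Module.Grassmannian.ext (le_antisymm (key N N' h)
    (key N' N fun f hf => (h f hf).symm))

omit [Algebra A B] [IsScalarTower R A B] in
/-- Points on a cover agreeing on overlaps glue. -/
theorem exists_glue {ι : Type*} [Finite ι] (f : ι → A) (hf : Ideal.span (Set.range f) = ⊤)
    (P : ∀ i, Pt R M k (Localization.Away (f i)))
    (hP : ∀ (i j : ι) (D : Type u) [CommRing D] [Algebra R D]
      (a : Localization.Away (f i) →ₐ[R] D) (b : Localization.Away (f j) →ₐ[R] D),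
      a.comp (IsScalarTower.toAlgHom R A _) = b.comp (IsScalarTower.toAlgHom R A _) →
        gmap a (P i) = gmap b (P j)) :
    ∃ N : Pt R M k A, ∀ i,
      gmap (IsScalarTower.toAlgHom R A (Localization.Away (f i))) N = P i := by
  classical
  cases nonempty_fintype ι
  let N : Submodule A (A ⊗[R] M) := ⨅ i,
    ((P i).toSubmodule.restrictScalars A).comap (tmA R M A (Localization.Away (f i)))
  have hmem : ∀ v, v ∈ N ↔ ∀ i, tmA R M A (Localization.Away (f i)) v ∈ (P i).toSubmodule := by
    intro v; simp [N]
  have trans : ∀ (i j : ι) (v : A ⊗[R] M),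
      tmA R M A (Localization.Away (f i)) v ∈ (P i).toSubmodule →
      ∃ n, tmA R M A (Localization.Away (f j)) (f i ^ n • v) ∈ (P j).toSubmodule := by
    intro i j v hv
    let Aj := Localization.Away (f j)
    let D := Localization.Away (algebraMap A Aj (f i))
    let b : Aj →ₐ[R] D := IsScalarTower.toAlgHom R Aj D
    let a0 : Localization.Away (f i) →ₐ[A] D := IsLocalization.liftAlgHom
      (M := Submonoid.powers (f i)) (f := Algebra.ofId A D) (by
        rintro ⟨_, n, rfl⟩
        simp only [map_pow]
        refine IsUnit.pow n ?_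
        show IsUnit (algebraMap A D (f i))
        rw [IsScalarTower.algebraMap_apply A Aj D]
        exact IsLocalization.Away.algebraMap_isUnit _)
    let a : Localization.Away (f i) →ₐ[R] D := a0.restrictScalars R
    have hab : a.comp (IsScalarTower.toAlgHom R A _) = b.comp (IsScalarTower.toAlgHom R A _) :=
      AlgHom.ext fun x => (a0.commutes x).trans (IsScalarTower.algebraMap_apply A Aj D x)
    have h1 := tm_mem_gmap a hv
    rw [hP i j D a b hab, tmA_apply, tm_comp, hab, ← tm_comp] at h1
    obtain ⟨n, hn⟩ := (tm_mem_gmap_iff (B := D) (algebraMap A Aj (f i)) (P j) _).mp h1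
    refine ⟨n, ?_⟩
    rw [map_smul, ← algebraMap_smul Aj, map_pow]
    exact hn
  have unif : ∀ (i : ι) (v : A ⊗[R] M),
      tmA R M A (Localization.Away (f i)) v ∈ (P i).toSubmodule → ∃ n, f i ^ n • v ∈ N := by
    intro i v hv
    choose n hn using fun j => trans i j v hv
    refine ⟨Finset.univ.sup n, (hmem _).mpr fun j => ?_⟩
    obtain ⟨d, hd⟩ := Nat.exists_eq_add_of_le (Finset.le_sup (f := n) (Finset.mem_univ j))
    rw [hd, pow_add, mul_comm, ← smul_smul, map_smul, ← algebraMap_smul (Localization.Away (f j))]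
    exact Submodule.smul_mem _ _ (hn j)
  let L : ∀ i, (A ⊗[R] M) ⧸ N →ₗ[A] (Localization.Away (f i) ⊗[R] M) ⧸ (P i).toSubmodule :=
    fun i => Submodule.liftQ N
      ((P i).toSubmodule.mkQ.restrictScalars A ∘ₗ tmA R M A (Localization.Away (f i)))
      (fun v hv => by
        simp only [LinearMap.mem_ker, LinearMap.coe_comp, Function.comp_apply,
          LinearMap.coe_restrictScalars, Submodule.mkQ_apply, Submodule.Quotient.mk_eq_zero]
        exact (hmem v).mp hv i)
  haveI hL : ∀ i, IsLocalizedModule.Away (f i) (L i) := by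
    intro i
    refine ⟨?_, ?_, ?_⟩
    · rintro ⟨_, n, rfl⟩
      have hu : IsUnit (algebraMap A (Localization.Away (f i)) (f i ^ n)) := by
        rw [map_pow]; exact (IsLocalization.Away.algebraMap_isUnit _).pow n
      rw [Module.End.isUnit_iff]
      have := hu.smul_bijective
        (β := (Localization.Away (f i) ⊗[R] M) ⧸ (P i).toSubmodule)
      convert this using 1
      funext q
      rw [Module.algebraMap_end_apply, algebraMap_smul]
    · intro q
      obtain ⟨w, rfl⟩ := Submodule.mkQ_surjective _ q
      obtain ⟨n, v, hv⟩ := exists_smul_eq_tm (f i) w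
      refine ⟨⟨Submodule.Quotient.mk v, ⟨f i ^ n, n, rfl⟩⟩, ?_⟩
      simp only [L, Submodule.liftQ_apply, LinearMap.coe_comp, Function.comp_apply,
        LinearMap.coe_restrictScalars, ← hv, Submonoid.smul_def, Submodule.mkQ_apply,
        algebraMap_smul, Submodule.Quotient.mk_smul]
    · intro q q' hq
      obtain ⟨v, rfl⟩ := Submodule.mkQ_surjective _ q
      obtain ⟨v', rfl⟩ := Submodule.mkQ_surjective _ q'
      have h1 : tmA R M A (Localization.Away (f i)) (v - v') ∈ (P i).toSubmodule := by
        rw [← Submodule.Quotient.mk_eq_zero, map_sub, Submodule.Quotient.mk_sub, sub_eq_zero]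
        exact hq
      obtain ⟨n, hn⟩ := unif i _ h1
      refine ⟨⟨f i ^ n, n, rfl⟩, ?_⟩
      rw [Submonoid.smul_def, Submonoid.smul_def, ← map_smul, ← map_smul, Submodule.mkQ_apply,
        Submodule.mkQ_apply, Submodule.Quotient.eq]
      rw [smul_sub] at hn
      exact hn
  let idx : Set.range f → ι := fun g => g.2.choose
  have hidx : ∀ g : Set.range f, f (idx g) = g.1 := fun g => g.2.choose_spec
  let Rp : Set.range f → Type u := fun g => Localization.Away (f (idx g))
  let Mp : Set.range f → Type u :=
    fun g => (Localization.Away (f (idx g)) ⊗[R] M) ⧸ (P (idx g)).toSubmodule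
  haveI hRp : ∀ g : Set.range f, IsLocalization.Away g.1 (Rp g) := fun g => by
    rw [← hidx g]; infer_instance
  haveI hMp : ∀ g : Set.range f, IsLocalizedModule.Away g.1 (L (idx g)) := fun g => by
    rw [← hidx g]; infer_instance
  haveI hFP : Module.FinitePresentation A ((A ⊗[R] M) ⧸ N) :=
    Module.FinitePresentation.of_localizationSpan' (Mₚ := Mp) (Rₚ := Rp) (Set.range f) hf
      (fun g => L (idx g)) fun g =>
        Module.finitePresentation_of_projective _ _
  haveI : Module.Flat A ((A ⊗[R] M) ⧸ N) := by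
    refine Module.flat_of_isLocalized_span (R := A) (S := A) _ (Set.range f) hf Mp
      (fun g => L (idx g)) fun g => ?_
    haveI : Module.Flat (Rp g) (Mp g) := inferInstance
    haveI : Module.Flat A (Rp g) := IsLocalization.flat (Rp g) (Submonoid.powers g.1)
    exact Module.Flat.trans A (Rp g) (Mp g)
  have hrank : ∀ p, rankAtStalk (R := A) ((A ⊗[R] M) ⧸ N) p = k := by
    intro p
    obtain ⟨i, hi⟩ : ∃ i, f i ∉ p.asIdeal := by
      by_contra! h
      refine p.2.ne_top (top_le_iff.mp (hf ▸ ?_))
      rw [Ideal.span_le, Set.range_subset_iff]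
      exact h
    obtain ⟨q, rfl⟩ : p ∈ Set.range (PrimeSpectrum.comap
        (algebraMap A (Localization.Away (f i)))) := by
      rw [PrimeSpectrum.localization_away_comap_range (Localization.Away (f i)) (f i)]
      exact hi
    rw [← rankAtStalk_isBaseChange
      (IsLocalizedModule.isBaseChange (Submonoid.powers (f i)) _ (L i)) q]
    exact (P i).rankAtStalk_eq q
  refine ⟨⟨N, inferInstance, Module.Flat.projective_of_finitePresentation, hrank⟩, fun i => ?_⟩
  refine Module.Grassmannian.ext (Submodule.ext fun w => ?_)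
  obtain ⟨n, v, hv⟩ := exists_smul_eq_tm (f i) w
  have hu : IsUnit (algebraMap A (Localization.Away (f i)) (f i ^ n)) := by
    rw [map_pow]; exact (IsLocalization.Away.algebraMap_isUnit _).pow n
  rw [← Submodule.smul_mem_iff_of_isUnit _ hu, ← Submodule.smul_mem_iff_of_isUnit
    (P i).toSubmodule hu, hv, tmA_apply, tm_mem_gmap_iff (f i)]
  constructor
  · rintro ⟨m, hm⟩
    have h1 := (hmem _).mp hm i
    rw [map_smul, ← algebraMap_smul (Localization.Away (f i))] at h1
    refine (Submodule.smul_mem_iff_of_isUnit _ ?_).mp h1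
    rw [map_pow]; exact (IsLocalization.Away.algebraMap_isUnit _).pow m
  · exact fun h => unif i v h

end Groth.Agent.GrassLib
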