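import Groth.Agent.Lib.Grass.Ring
import Groth.Agent.Lib.Grass.Descent

/-!
# The Grassmannian scheme of a module over an affine base
-/

set_option autoImplicit false
set_option backward.isDefEq.respectTransparency false
universe u

open TensorProduct Module CategoryTheory Limits AlgebraicGeometry

namespace Groth.Agent.GrassLib

variable {R : Type u} [CommRing R] {M : Type u} [AddCommGroup M] [Module R M] {k : ℕ}
variable {A B : Type u} [CommRing A] [Algebra R A] [CommRing B] [Algebra R B]

/-- `Spec` of an algebra map. -/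
noncomputable abbrev sp (φ : A →ₐ[R] B) : Spec (CommRingCat.of B) ⟶ Spec (CommRingCat.of A) :=
  Spec.map (CommRingCat.ofHom φ.toRingHom)

lemma sp_id : sp (AlgHom.id R A) = 𝟙 (Spec (CommRingCat.of A)) :=
  Spec.map_id (CommRingCat.of A)

lemma sp_comp {C : Type u} [CommRing C] [Algebra R C] (φ : A →ₐ[R] B) (ψ : B →ₐ[R] C) :
    sp (ψ.comp φ) = sp ψ ≫ sp φ :=
  Spec.map_comp (CommRingCat.ofHom φ.toRingHom) (CommRingCat.ofHom ψ.toRingHom)

variable (R A) in
/-- The structure morphism of `Spec A`. -/
noncomputable abbrev str : Spec (CommRingCat.of A) ⟶ Spec (CommRingCat.of R) :=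
  Spec.map (CommRingCat.ofHom (algebraMap R A))

lemma sp_str (φ : A →ₐ[R] B) : sp φ ≫ str R A = str R B := by
  rw [str, str, sp, ← Spec.map_comp, ← CommRingCat.ofHom_comp]
  congr 2
  exact φ.comp_algebraMap

lemma sp_injective {φ ψ : A →ₐ[R] B} (h : sp φ = sp ψ) : φ = ψ :=
  AlgHom.coe_ringHom_injective (CommRingCat.hom_ext_iff.mp (Spec.map_injective h))

lemma exists_sp {g : Spec (CommRingCat.of B) ⟶ Spec (CommRingCat.of A)}
    (h : g ≫ str R A = str R B) : ∃ φ : A →ₐ[R] B, sp φ = g := by
  obtain ⟨φ, rfl⟩ : ∃ φ, Spec.map φ = g := ⟨_, Spec.map_preimage g⟩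
  rw [str, str, ← Spec.map_comp] at h
  have h' := Spec.map_injective h
  exact ⟨{ φ.hom with commutes' := fun r => RingHom.congr_fun (congrArg CommRingCat.Hom.hom h') r },
    rfl⟩

variable (R M k) in
/-- The diagram of intersections of charts. -/
noncomputable def diag : (ChartSet M k)ᵒᵈ ⥤ Scheme.{u} where
  obj S := Spec (CommRingCat.of (ChartSet.CRing R (OrderDual.ofDual S)))
  map {T S} h := sp (ChartSet.res (R := R) (S := OrderDual.ofDual S) (T := OrderDual.ofDual T)
    (leOfHom h))
  map_id S := by rw [ChartSet.res_refl, sp_id]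
  map_comp {U T S} h h' := by rw [← sp_comp, ← ChartSet.res_trans]

instance (S T : (ChartSet M k)ᵒᵈ) (h : T ⟶ S) : IsOpenImmersion ((diag R M k).map h) := by
  have h' := ChartSet.isLocalization_res (R := R) (S := OrderDual.ofDual S)
    (T := OrderDual.ofDual T) (leOfHom h)
  letI := (ChartSet.res (R := R) (S := OrderDual.ofDual S) (T := OrderDual.ofDual T)
    (leOfHom h)).toRingHom.toAlgebra
  exact @IsOpenImmersion.of_isLocalization _ _ _ _ _ _ h'

lemma range_sp_res {S T : ChartSet M k} (h : S.1 ⊆ T.1)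
    (p : PrimeSpectrum (ChartSet.CRing R S)) :
    p ∈ Set.range (PrimeSpectrum.comap (ChartSet.res (R := R) h).toRingHom) ↔
      ∀ y ∈ T.1, (S.inChart_pt_base (R := R)).det y ∉ p.asIdeal := by
  have h' := ChartSet.isLocalization_res (R := R) h
  letI := (ChartSet.res (R := R) h).toRingHom.toAlgebra
  haveI := h'
  have h1 := PrimeSpectrum.localization_away_comap_range (ChartSet.CRing R T)
    (ChartSet.resElt R S T)
  rw [RingHom.algebraMap_toAlgebra] at h1
  rw [h1, SetLike.mem_coe, PrimeSpectrum.mem_basicOpen, ChartSet.resElt,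
    p.2.prod_mem_iff]
  push_neg
  rfl

instance : (diag R M k ⋙ Scheme.forget).IsLocallyDirected where
  cond {i j l} fi fj xi xj h := by
    classical
    let S := OrderDual.ofDual i
    let T := OrderDual.ofDual j
    let K := OrderDual.ofDual l
    let U : ChartSet M k := ⟨S.1 ∪ T.1, S.2.mono Finset.subset_union_left⟩
    have hS : K.1 ⊆ S.1 := leOfHom fi
    have hT : K.1 ⊆ T.1 := leOfHom fj
    let p : PrimeSpectrum (ChartSet.CRing R K) :=
      PrimeSpectrum.comap (ChartSet.res (R := R) hS).toRingHom xi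
    have hp : p = PrimeSpectrum.comap (ChartSet.res (R := R) hT).toRingHom xj := h
    have h1 := (range_sp_res hS p).mp ⟨xi, rfl⟩
    have h2 := (range_sp_res hT p).mp ⟨xj, hp.symm⟩
    have hU : K.1 ⊆ U.1 := hS.trans Finset.subset_union_left
    obtain ⟨z, hz⟩ := (range_sp_res hU p).mpr fun y hy =>
      (Finset.mem_union.mp hy).elim (h1 y) (h2 y)
    let li : OrderDual.toDual U ⟶ i := homOfLE (show i.ofDual.1 ⊆ U.1 from Finset.subset_union_left)
    let lj : OrderDual.toDual U ⟶ j :=
      homOfLE (show j.ofDual.1 ⊆ U.1 from Finset.subset_union_right)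
    refine ⟨OrderDual.toDual U, li, lj, z, ?_, ?_⟩
    · apply ((diag R M k).map fi).isOpenEmbedding.injective
      refine Eq.trans ?_ (show p = (diag R M k).map fi xi from rfl)
      rw [← hz]
      show ((diag R M k).map li ≫ (diag R M k).map fi) z = _
      rw [← Functor.map_comp]
      rfl
    · apply ((diag R M k).map fj).isOpenEmbedding.injective
      refine Eq.trans ?_ (show p = (diag R M k).map fj xj from hp)
      rw [← hz]
      show ((diag R M k).map lj ≫ (diag R M k).map fj) z = _
      rw [← Functor.map_comp]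
      rfl

variable (R M k) in
/-- The Grassmannian scheme. -/
noncomputable def Gr : Scheme.{u} := colimit (diag R M k)

/-- The inclusion of an intersection of charts. -/
noncomputable def inc (S : ChartSet M k) :
    Spec (CommRingCat.of (ChartSet.CRing R S)) ⟶ Gr R M k :=
  colimit.ι (diag R M k) (OrderDual.toDual S)

instance (S : ChartSet M k) : IsOpenImmersion (inc (R := R) S) :=
  inferInstanceAs (IsOpenImmersion (colimit.ι (diag R M k) (OrderDual.toDual S)))

lemma sp_res_inc {S T : ChartSet M k} (h : S.1 ⊆ T.1) :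
    sp (ChartSet.res (R := R) h) ≫ inc S = inc T :=
  colimit.w (diag R M k) (homOfLE (show OrderDual.toDual T ≤ OrderDual.toDual S from h))

lemma inc_jointly_surjective (p : Gr R M k) : ∃ S, p ∈ Set.range (inc (R := R) (M := M) (k := k) S) := by
  obtain ⟨j, x, hx⟩ := Scheme.IsLocallyDirected.ι_jointly_surjective (diag R M k) p
  exact ⟨OrderDual.ofDual j, x, hx⟩

variable (R M k) in
/-- The structure morphism of the Grassmannian. -/
noncomputable def toBase : Gr R M k ⟶ Spec (CommRingCat.of R) :=
  colimit.desc (diag R M k)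
    ⟨_, { app := fun S => str R (ChartSet.CRing R (OrderDual.ofDual S))
          naturality := fun T S h => by
            simp only [Functor.const_obj_obj, Functor.const_obj_map, Category.comp_id]
            exact sp_str _ }⟩

lemma inc_toBase (S : ChartSet M k) :
    inc S ≫ toBase R M k = str R (ChartSet.CRing R S) :=
  colimit.ι_desc _ _

/-- The set consisting of one chart. -/
abbrev single (x : Fin k → M) : ChartSet M k := ⟨{x}, Finset.singleton_nonempty x⟩

lemma single_inChart {x : Fin k → M} {N : Pt R M k A} (h : InChart x N) :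
    ∀ y ∈ (single x).1, InChart y N := fun y hy => by rwa [Finset.mem_singleton.mp hy]

/-- The morphism given by a point in a chart. -/
noncomputable def chartMor {x : Fin k → M} {N : Pt R M k A} (h : InChart x N) :
    Spec (CommRingCat.of A) ⟶ Gr R M k :=
  sp (ChartSet.desc (single_inChart h)) ≫ inc (single x)

lemma chartMor_toBase {x : Fin k → M} {N : Pt R M k A} (h : InChart x N) :
    chartMor h ≫ toBase R M k = str R A := by
  rw [chartMor, Category.assoc, inc_toBase, sp_str]

lemma chartMor_eq_desc {S : ChartSet M k} {x : Fin k → M} (hx : x ∈ S.1) {N : Pt R M k A}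
    (hS : ∀ y ∈ S.1, InChart y N) (h : InChart x N) :
    chartMor h = sp (ChartSet.desc hS) ≫ inc S := by
  have hsub : (single x).1 ⊆ S.1 := Finset.singleton_subset_iff.mpr hx
  rw [chartMor, ← sp_res_inc hsub, ← Category.assoc, ← sp_comp, ChartSet.desc_res]

lemma chartMor_congr {x y : Fin k → M} {N : Pt R M k A} (h : InChart x N) (h' : InChart y N) :
    chartMor h = chartMor h' := by
  classical
  let S : ChartSet M k := ⟨{x, y}, Finset.insert_nonempty _ _⟩
  have hS : ∀ z ∈ S.1, InChart z N := by
    intro z hz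
    rcases Finset.mem_insert.mp hz with rfl | hz
    · exact h
    · rwa [Finset.mem_singleton.mp hz]
  rw [chartMor_eq_desc (S := S) (by simp [S]) hS h, chartMor_eq_desc (S := S) (by simp [S]) hS h']

lemma chartMor_of_eq {x : Fin k → M} {N N' : Pt R M k A} (e : N = N') (h : InChart x N)
    (h' : InChart x N') : chartMor h = chartMor h' := by subst e; rfl

lemma sp_chartMor {x : Fin k → M} {N : Pt R M k A} (h : InChart x N) (φ : A →ₐ[R] B) :
    sp φ ≫ chartMor h = chartMor (h.gmap φ) := by
  rw [chartMor, chartMor, ← Category.assoc, ← sp_comp]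
  congr 2
  exact ChartSet.hom_ext (by rw [gmap_comp, ChartSet.gmap_desc, ChartSet.gmap_desc])

/-- The cover of `Spec A` given by elements generating the unit ideal. -/
noncomputable abbrev spanCover {ι : Type u} (f : ι → A) (hf : Ideal.span (Set.range f) = ⊤) :
    (Spec (CommRingCat.of A)).OpenCover :=
  (Scheme.affineOpenCoverOfSpanRangeEqTop (R := CommRingCat.of A) f hf).openCover

lemma hom_ext_span {ι : Type u} (f : ι → A) (hf : Ideal.span (Set.range f) = ⊤) {Y : Scheme.{u}}
    (g g' : Spec (CommRingCat.of A) ⟶ Y)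
    (h : ∀ i, sp (IsScalarTower.toAlgHom R A (Localization.Away (f i))) ≫ g =
      sp (IsScalarTower.toAlgHom R A (Localization.Away (f i))) ≫ g') : g = g' :=
  (spanCover f hf).hom_ext _ _ h

lemma exists_chart_cover (N : Pt R M k A) : ∃ (ι : Type u) (_ : Finite ι) (f : ι → A)
    (x : ι → (Fin k → M)), Ideal.span (Set.range f) = ⊤ ∧
      ∀ i, InChart (x i) (gmap (IsScalarTower.toAlgHom R A (Localization.Away (f i))) N) := by
  let s : Set A := {f | ∃ x : Fin k → M,
    InChart x (gmap (IsScalarTower.toAlgHom R A (Localization.Away f)) N)}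
  have hs : Ideal.span s = ⊤ := by
    by_contra h
    obtain ⟨m, hm, hle⟩ := Ideal.exists_le_maximal _ h
    obtain ⟨f, hf, hx⟩ := exists_inChart_away N ⟨m, hm.isPrime⟩
    exact hf (hle (Ideal.subset_span hx))
  obtain ⟨t, ht, htop⟩ := (Ideal.span_eq_top_iff_finite _).mp hs
  choose x hx using fun f : t => ht f.2
  exact ⟨t, inferInstance, Subtype.val, x, by rw [Subtype.range_coe_subtype]; exact htop, hx⟩

/-- `g` is the morphism classifying `N`. -/
def IsClassifying (N : Pt R M k A) (g : Spec (CommRingCat.of A) ⟶ Gr R M k) : Prop :=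
  ∀ (B : Type u) [CommRing B] [Algebra R B] (φ : A →ₐ[R] B) (x : Fin k → M)
    (h : InChart x (gmap φ N)), sp φ ≫ g = chartMor h

lemma IsClassifying.unique {N : Pt R M k A} {g g' : Spec (CommRingCat.of A) ⟶ Gr R M k}
    (h : IsClassifying N g) (h' : IsClassifying N g') : g = g' := by
  obtain ⟨ι, _, f, x, hf, hx⟩ := exists_chart_cover N
  exact hom_ext_span f hf g g' fun i => (h _ _ _ (hx i)).trans (h' _ _ _ (hx i)).symm

lemma IsClassifying.comp {N : Pt R M k A} {g : Spec (CommRingCat.of A) ⟶ Gr R M k}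
    (h : IsClassifying N g) (φ : A →ₐ[R] B) : IsClassifying (gmap φ N) (sp φ ≫ g) := by
  intro C _ _ ψ x hx
  rw [← Category.assoc, ← sp_comp]
  have e : gmap (ψ.comp φ) N = gmap ψ (gmap φ N) := gmap_comp φ ψ N
  exact (h C (ψ.comp φ) x (e ▸ hx)).trans (chartMor_of_eq e _ _)

theorem exists_isClassifying (N : Pt R M k A) :
    ∃ g : Spec (CommRingCat.of A) ⟶ Gr R M k, IsClassifying N g := by
  obtain ⟨ι, _, f, x, hf, hx⟩ := exists_chart_cover N
  let g : Spec (CommRingCat.of A) ⟶ Gr R M k :=
    (spanCover f hf).glueMorphisms (fun i => chartMor (hx i)) fun i j => by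
      rw [← cancel_epi (pullbackSpecIso A (Localization.Away (f i)) (Localization.Away (f j))).inv]
      erw [pullbackSpecIso_inv_fst_assoc, pullbackSpecIso_inv_snd_assoc]
      let a : Localization.Away (f i) →ₐ[R]
          Localization.Away (f i) ⊗[A] Localization.Away (f j) :=
        (Algebra.TensorProduct.includeLeft (S := A)).restrictScalars R
      let b : Localization.Away (f j) →ₐ[R]
          Localization.Away (f i) ⊗[A] Localization.Away (f j) :=
        Algebra.TensorProduct.includeRight.restrictScalars R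
      show sp a ≫ chartMor (hx i) = sp b ≫ chartMor (hx j)
      have hab : a.comp (IsScalarTower.toAlgHom R A _) = b.comp (IsScalarTower.toAlgHom R A _) :=
        AlgHom.ext fun c =>
          ((Algebra.TensorProduct.includeLeft (S := A) : Localization.Away (f i) →ₐ[A]
            Localization.Away (f i) ⊗[A] Localization.Away (f j)).commutes c).trans
          ((Algebra.TensorProduct.includeRight : Localization.Away (f j) →ₐ[A]
            Localization.Away (f i) ⊗[A] Localization.Away (f j)).commutes c).symm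
      rw [sp_chartMor, sp_chartMor]
      have e : gmap a (gmap (IsScalarTower.toAlgHom R A (Localization.Away (f i))) N) =
          gmap b (gmap (IsScalarTower.toAlgHom R A (Localization.Away (f j))) N) := by
        rw [← gmap_comp, ← gmap_comp, hab]
      exact (chartMor_of_eq e _ (e ▸ (hx i).gmap a)).trans (chartMor_congr _ _)
  have hg : ∀ i, sp (IsScalarTower.toAlgHom R A (Localization.Away (f i))) ≫ g =
      chartMor (hx i) := fun i => (spanCover f hf).ι_glueMorphisms _ _ i
  refine ⟨g, fun B _ _ φ y hy => ?_⟩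
  have hφ : Ideal.span (Set.range (φ ∘ f)) = ⊤ := by
    rw [Set.range_comp, ← Ideal.map_span φ (Set.range f), hf, Ideal.map_top]
  refine hom_ext_span (R := R) (φ ∘ f) hφ _ _ fun i => ?_
  let Bi := Localization.Away (φ (f i))
  let ρ : B →ₐ[R] Bi := IsScalarTower.toAlgHom R B Bi
  let a : Localization.Away (f i) →ₐ[R] Bi := IsLocalization.liftAlgHom
    (M := Submonoid.powers (f i)) (f := ρ.comp φ) (by
      rintro ⟨_, n, rfl⟩
      simp only [map_pow]
      exact (IsLocalization.Away.algebraMap_isUnit (φ (f i))).pow n)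
  have ha : a.comp (IsScalarTower.toAlgHom R A _) = ρ.comp φ :=
    AlgHom.ext fun c => IsLocalization.lift_eq _ c
  show sp ρ ≫ sp φ ≫ g = sp ρ ≫ chartMor hy
  rw [← Category.assoc, ← sp_comp, ← ha, sp_comp, Category.assoc, hg, sp_chartMor, sp_chartMor]
  have e : gmap a (gmap (IsScalarTower.toAlgHom R A (Localization.Away (f i))) N) =
      gmap ρ (gmap φ N) := by rw [← gmap_comp, ha, gmap_comp]
  exact (chartMor_of_eq e _ (e ▸ (hx i).gmap a)).trans (chartMor_congr _ _)

/-- The morphism classifying a point. -/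
noncomputable def classify (N : Pt R M k A) : Spec (CommRingCat.of A) ⟶ Gr R M k :=
  (exists_isClassifying N).choose

lemma classify_spec (N : Pt R M k A) : IsClassifying N (classify N) :=
  (exists_isClassifying N).choose_spec

lemma sp_classify (φ : A →ₐ[R] B) (N : Pt R M k A) :
    sp φ ≫ classify N = classify (gmap φ N) :=
  ((classify_spec N).comp φ).unique (classify_spec _)

lemma classify_toBase (N : Pt R M k A) : classify N ≫ toBase R M k = str R A := by
  obtain ⟨ι, _, f, x, hf, hx⟩ := exists_chart_cover N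
  refine hom_ext_span (R := R) f hf _ _ fun i => ?_
  rw [← Category.assoc, classify_spec N _ _ _ (hx i), chartMor_toBase, sp_str]

lemma classify_eq_chartMor {x : Fin k → M} {N : Pt R M k A} (h : InChart x N) :
    classify N = chartMor h := by
  have h1 := classify_spec N A (AlgHom.id R A) x (h.gmap _)
  rw [sp_id, Category.id_comp] at h1
  exact h1.trans (chartMor_of_eq (gmap_id N) _ _)

lemma classify_gmap_pt {S : ChartSet M k} (χ : ChartSet.CRing R S →ₐ[R] A) :
    classify (gmap χ (ChartSet.pt R S)) = sp χ ≫ inc S := by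
  rw [classify_eq_chartMor (S.inChart_pt_base.gmap χ),
    chartMor_eq_desc S.base_mem (fun y hy => ChartSet.inChart_gmap_pt χ hy)]
  congr 2
  exact ChartSet.hom_ext (ChartSet.gmap_desc _)

/-- Locally, every morphism factors through a chart. -/
lemma exists_factor (g : Spec (CommRingCat.of A) ⟶ Gr R M k)
    (hg : g ≫ toBase R M k = str R A) (p : PrimeSpectrum A) (S : ChartSet M k)
    (hp : g p ∈ Set.range (inc (R := R) S)) :
    ∃ f : A, f ∉ p.asIdeal ∧ ∃ χ : ChartSet.CRing R S →ₐ[R] Localization.Away f,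
      sp (IsScalarTower.toAlgHom R A (Localization.Away f)) ≫ g = sp χ ≫ inc S := by
  let U : TopologicalSpace.Opens (PrimeSpectrum A) := g ⁻¹ᵁ (inc (R := R) S).opensRange
  have hpU : p ∈ U := hp
  obtain ⟨_, ⟨f, rfl⟩, hfp, hfU⟩ :=
    PrimeSpectrum.isTopologicalBasis_basic_opens.exists_subset_of_mem_open hpU U.2
  refine ⟨f, hfp, ?_⟩
  set ρ := IsScalarTower.toAlgHom R A (Localization.Away f)
  have hrange : Set.range (sp ρ ≫ g) ⊆ Set.range (inc (R := R) S) := by
    rintro _ ⟨q, rfl⟩
    rw [Scheme.Hom.comp_apply]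
    refine hfU ?_
    exact (PrimeSpectrum.localization_away_comap_range (Localization.Away f) f).subset ⟨q, rfl⟩
  let l := IsOpenImmersion.lift (inc (R := R) S) (sp ρ ≫ g) hrange
  have hl : l ≫ inc S = sp ρ ≫ g := IsOpenImmersion.lift_fac _ _ _
  obtain ⟨χ, hχ⟩ := exists_sp (R := R) (g := l) (by
    rw [← inc_toBase, ← Category.assoc, hl, Category.assoc, hg, sp_str])
  exact ⟨χ, by rw [hχ, hl]⟩

/-- Two points in charts defining the same morphism are equal. -/
lemma gmap_pt_eq_of_sp_inc_eq {S T : ChartSet M k} (χ : ChartSet.CRing R S →ₐ[R] A)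
    (χ' : ChartSet.CRing R T →ₐ[R] A) (h : sp χ ≫ inc S = sp χ' ≫ inc T) :
    gmap χ (ChartSet.pt R S) = gmap χ' (ChartSet.pt R T) := by
  let s : Set A := {f | gmap (IsScalarTower.toAlgHom R A (Localization.Away f))
    (gmap χ (ChartSet.pt R S)) = gmap (IsScalarTower.toAlgHom R A (Localization.Away f))
    (gmap χ' (ChartSet.pt R T))}
  refine Pt.eq_of_away (s := s) ?_ _ _ fun f hf => hf
  by_contra hs
  obtain ⟨m, hm, hle⟩ := Ideal.exists_le_maximal _ hs
  let p : PrimeSpectrum A := ⟨m, hm.isPrime⟩
  have hp : colimit.ι (diag R M k) (OrderDual.toDual S) (sp χ p) =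
      colimit.ι (diag R M k) (OrderDual.toDual T) (sp χ' p) := congrArg (fun g => g p) h
  obtain ⟨U, fi, fj, z, hzi, -⟩ := (Scheme.IsLocallyDirected.ι_eq_ι_iff _).mp hp
  have hz : (sp χ ≫ inc S) p ∈ Set.range (inc (R := R) (OrderDual.ofDual U)) := by
    refine ⟨z, ?_⟩
    rw [Scheme.Hom.comp_apply, ← hzi]
    show colimit.ι (diag R M k) U z =
      ((diag R M k).map fi ≫ colimit.ι (diag R M k) (OrderDual.toDual S)) z
    rw [colimit.w]
  obtain ⟨f, hf, χ'', hχ''⟩ := exists_factor (sp χ ≫ inc S)
    (by rw [Category.assoc, inc_toBase, sp_str]) p (OrderDual.ofDual U) hz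
  refine hf (hle (Ideal.subset_span ?_))
  set ρ := IsScalarTower.toAlgHom R A (Localization.Away f)
  have key : ∀ {V : ChartSet M k} (hV : V.1 ⊆ (OrderDual.ofDual U).1)
      (ψ : ChartSet.CRing R V →ₐ[R] A),
      sp ρ ≫ sp ψ ≫ inc V = sp χ'' ≫ inc (OrderDual.ofDual U) →
      gmap ρ (gmap ψ (ChartSet.pt R V)) = gmap χ'' (ChartSet.pt R (OrderDual.ofDual U)) := by
    intro V hV ψ hψ
    rw [← sp_res_inc hV, ← Category.assoc, ← Category.assoc, cancel_mono, ← sp_comp, ← sp_comp]
      at hψ
    rw [← gmap_comp, sp_injective hψ, gmap_comp, ChartSet.gmap_res]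
  exact (key (leOfHom fi) χ hχ'').trans (key (leOfHom fj) χ' (h ▸ hχ'')).symm

theorem classify_injective {N N' : Pt R M k A} (h : classify N = classify N') : N = N' := by
  let s : Set A := {f | gmap (IsScalarTower.toAlgHom R A (Localization.Away f)) N =
    gmap (IsScalarTower.toAlgHom R A (Localization.Away f)) N'}
  refine Pt.eq_of_away (s := s) ?_ N N' fun f hf => hf
  by_contra hs
  obtain ⟨m, hm, hle⟩ := Ideal.exists_le_maximal _ hs
  let p : PrimeSpectrum A := ⟨m, hm.isPrime⟩
  obtain ⟨f, hf, x, hx⟩ := exists_inChart_away N p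
  obtain ⟨f', hf', y, hy⟩ := exists_inChart_away N' p
  refine p.2.mul_notMem hf hf' (hle (Ideal.subset_span ?_))
  let ρ : A →ₐ[R] Localization.Away (f * f') := IsScalarTower.toAlgHom R A _
  have lift : ∀ g : A, g ∣ f * f' → ∃ a : Localization.Away g →ₐ[R] Localization.Away (f * f'),
      a.comp (IsScalarTower.toAlgHom R A _) = ρ := by
    intro g hg
    refine ⟨IsLocalization.liftAlgHom (M := Submonoid.powers g) (f := ρ) ?_,
      AlgHom.ext fun c => IsLocalization.lift_eq _ c⟩
    rintro ⟨_, n, rfl⟩
    simp only [map_pow]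
    exact (isUnit_of_dvd_unit (map_dvd _ hg)
      (IsLocalization.Away.algebraMap_isUnit (S := Localization.Away (f * f')) (f * f'))).pow n
  obtain ⟨a, ha⟩ := lift f (dvd_mul_right _ _)
  obtain ⟨b, hb⟩ := lift f' (dvd_mul_left _ _)
  have hxρ : InChart x (gmap ρ N) := by rw [← ha, gmap_comp]; exact hx.gmap a
  have hyρ : InChart y (gmap ρ N') := by rw [← hb, gmap_comp]; exact hy.gmap b
  have h1 : chartMor hxρ = chartMor hyρ := by
    rw [← classify_spec N _ ρ x hxρ, ← classify_spec N' _ ρ y hyρ, h]
  have h2 := gmap_pt_eq_of_sp_inc_eq _ _ h1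
  rw [ChartSet.gmap_desc, ChartSet.gmap_desc] at h2
  exact h2

theorem classify_surjective (g : Spec (CommRingCat.of A) ⟶ Gr R M k)
    (hg : g ≫ toBase R M k = str R A) : ∃ N : Pt R M k A, classify N = g := by
  let s : Set A := {f | ∃ (S : ChartSet M k) (χ : ChartSet.CRing R S →ₐ[R] Localization.Away f),
    sp (IsScalarTower.toAlgHom R A (Localization.Away f)) ≫ g = sp χ ≫ inc S}
  have hs : Ideal.span s = ⊤ := by
    by_contra h
    obtain ⟨m, hm, hle⟩ := Ideal.exists_le_maximal _ h
    obtain ⟨S, hS⟩ := inc_jointly_surjective (g ⟨m, hm.isPrime⟩)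
    obtain ⟨f, hf, χ, hχ⟩ := exists_factor g hg ⟨m, hm.isPrime⟩ S hS
    exact hf (hle (Ideal.subset_span ⟨S, χ, hχ⟩))
  obtain ⟨t, ht, htop⟩ := (Ideal.span_eq_top_iff_finite _).mp hs
  choose S χ hχ using fun f : t => ht f.2
  have htop' : Ideal.span (Set.range (Subtype.val : t → A)) = ⊤ := by
    rw [Subtype.range_coe_subtype]; exact htop
  obtain ⟨N, hN⟩ := exists_glue (Subtype.val : t → A) htop'
    (fun i => gmap (χ i) (ChartSet.pt R (S i))) fun i j D _ _ a b hab => by
      refine classify_injective ?_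
      rw [← sp_classify a, ← sp_classify b, classify_gmap_pt, classify_gmap_pt, ← hχ, ← hχ,
        ← Category.assoc, ← Category.assoc, ← sp_comp, ← sp_comp, hab]
  refine ⟨N, hom_ext_span (R := R) _ htop' _ _ fun i => ?_⟩
  rw [sp_classify, hN, classify_gmap_pt, hχ]

variable (R M k) in
/-- The Grassmannian as a scheme over `Spec R`. -/
noncomputable def grOver : Over (Spec (CommRingCat.of R)) := Over.mk (toBase R M k)

variable (A) in
/-- Points of the Grassmannian scheme are points of the Grassmannian functor. -/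
noncomputable def ptEquiv : (Over.mk (str R A) ⟶ grOver R M k) ≃ Pt R M k A :=
  (Equiv.ofBijective (fun N : Pt R M k A =>
      (Over.homMk (classify N) (classify_toBase N) : Over.mk (str R A) ⟶ grOver R M k))
    ⟨fun N N' h => classify_injective (congrArg CommaMorphism.left h),
      fun g => by
        obtain ⟨N, hN⟩ := classify_surjective g.left (Over.w g)
        exact ⟨N, Over.OverMorphism.ext hN⟩⟩).symm

lemma classify_ptEquiv (g : Over.mk (str R A) ⟶ grOver R M k) :
    classify (ptEquiv A g) = g.left :=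
  congrArg CommaMorphism.left ((ptEquiv A).symm_apply_apply g)

lemma ptEquiv_natural (φ : A →ₐ[R] B) (g : Over.mk (str R A) ⟶ grOver R M k)
    (g' : Over.mk (str R B) ⟶ grOver R M k) (h : g'.left = sp φ ≫ g.left) :
    ptEquiv B g' = gmap φ (ptEquiv A g) :=
  classify_injective (by rw [classify_ptEquiv, ← sp_classify, classify_ptEquiv, h])

end Groth.Agent.GrassLib
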