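import Groth.Agent.Lib.ProjSpace.Basic
import Groth.Agent.Lib.Grass.Glue

/-!
# Points of projective space in standard charts
-/

set_option autoImplicit false
set_option backward.isDefEq.respectTransparency false
universe u

open CategoryTheory CategoryTheory.Limits AlgebraicGeometry MvPolynomial HomogeneousLocalization

namespace Groth.Agent.GrassLib

open Groth.Agent.ProjSpace

variable {R : Type u} [CommRing R] {A B : Type u} [CommRing A] [Algebra R A] [CommRing B]
  [Algebra R B] {d : ℕ}

lemma aeval_mul_of_isHomogeneous {σ : Type*} (c : A) (G : σ → A) {p : MvPolynomial σ R} {n : ℕ}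
    (hp : p.IsHomogeneous n) :
    aeval (fun i => c * G i) p = c ^ n * aeval G p := by
  classical
  rw [p.as_sum, map_sum, map_sum, Finset.mul_sum]
  refine Finset.sum_congr rfl fun e he => ?_
  have hen : ∑ j ∈ e.support, e j = n := by
    rw [← Finsupp.degree_apply]
    by_contra hne
    exact (mem_support_iff.1 he) (hp.coeff_eq_zero hne)
  rw [aeval_monomial, aeval_monomial, Finsupp.prod, Finsupp.prod, mul_left_comm]
  congr 1
  simp_rw [mul_pow]
  rw [Finset.prod_mul_distrib, Finset.prod_pow_eq_pow_sum, hen]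

/-- The point with coordinates `F`, `F s = 1`, in the chart `D₊(T_s)`. -/
noncomputable def vecMor (s : Fin (d + 1)) (F : Fin (d + 1) → A) :
    Spec (CommRingCat.of A) ⟶ CohB1.ProjSpace d R :=
  sp (MvPolynomial.aeval fun r : {r : Fin (d + 1) // r ≠ s} => F r.1) ≫ ProjSpace.chart d R s

lemma sp_vecMor (φ : A →ₐ[R] B) (s : Fin (d + 1)) (F : Fin (d + 1) → A) :
    sp φ ≫ vecMor (R := R) s F = vecMor s fun r => φ (F r) := by
  rw [vecMor, vecMor, ← Category.assoc, ← sp_comp, MvPolynomial.comp_aeval]

lemma vecMor_toSpec (s : Fin (d + 1)) (F : Fin (d + 1) → A) :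
    vecMor (R := R) s F ≫ CohB1.ProjSpace.toSpec d R = str R A := by
  rw [vecMor, Category.assoc, ProjSpace.chart_toSpec]
  exact sp_str _

/-- The ring map of `vecMor`. -/
noncomputable def awayHom (s : Fin (d + 1)) (F : Fin (d + 1) → A) :
    Away (CohB1.polyGrading d R) (X s : MvPolynomial (Fin (d + 1)) R) →+* A :=
  (MvPolynomial.aeval fun r : {r : Fin (d + 1) // r ≠ s} => F r.1).toRingHom.comp
    (ProjSpace.ofAway R s)

lemma vecMor_eq_awayHom (s : Fin (d + 1)) (F : Fin (d + 1) → A) :
    vecMor (R := R) s F = Spec.map (CommRingCat.ofHom (awayHom s F)) ≫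
      Proj.awayι (CohB1.polyGrading d R) (X s) (X_mem' d R s) Nat.one_pos := by
  rw [vecMor, awayHom, CommRingCat.ofHom_comp, Spec.map_comp, Category.assoc]
  rfl

lemma awayHom_mk (s : Fin (d + 1)) (F : Fin (d + 1) → A) (hs : F s = 1) (n : ℕ)
    (a : MvPolynomial (Fin (d + 1)) R) (ha : a ∈ CohB1.polyGrading d R (n • 1)) :
    awayHom s F (Away.mk (CohB1.polyGrading d R) (X_mem' d R s) n a ha) = aeval F a := by
  have h : ((aeval fun r : {r : Fin (d + 1) // r ≠ s} => F r.1).toRingHom.comp (dehom R s)) =
      (aeval F).toRingHom := by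
    refine MvPolynomial.ringHom_ext (fun r => by simp) fun j => ?_
    by_cases hj : j = s
    · subst hj; simp [hs]
    · simp only [RingHom.comp_apply, show dehom R s (X j) = X ⟨j, hj⟩ from dehom_X R s ⟨j, hj⟩]
      simp
  rw [awayHom, RingHom.comp_apply]
  exact (congrArg _ (ofAway_mk R s n a ha)).trans (RingHom.congr_fun h a)

/-- Two points with proportional coordinates are equal. -/
theorem vecMor_change {s t : Fin (d + 1)} {F G : Fin (d + 1) → A} (hs : F s = 1) (ht : G t = 1)
    (hFG : ∀ r, F r = F t * G r) : vecMor (R := R) s F = vecMor t G := by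
  have hu : IsUnit (F t) := IsUnit.of_mul_eq_one _ (by rw [← hFG s, hs] : F t * G s = 1)
  have hst : IsUnit ((aeval (R := R) F).toRingHom (X s * X t : MvPolynomial (Fin (d + 1)) R)) := by simpa [hs] using hu
  let L := Localization.Away (X s * X t : MvPolynomial (Fin (d + 1)) R)
  let l : L →+* A := IsLocalization.Away.lift (X s * X t) hst
  have hl : ∀ q, l (algebraMap _ L q) = aeval F q := fun q => IsLocalization.Away.lift_eq _ _ q
  let h : Away (CohB1.polyGrading d R) (X s * X t : MvPolynomial (Fin (d + 1)) R) →+* A :=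
    l.comp (algebraMap _ L)
  have key : ∀ (j j' : Fin (d + 1)) (hx : (X s * X t : MvPolynomial (Fin (d + 1)) R) = X j * X j')
      (n : ℕ) (a : MvPolynomial (Fin (d + 1)) R) (ha : a ∈ CohB1.polyGrading d R (n • 1)),
      h (awayMap (CohB1.polyGrading d R) (X_mem' d R j') hx
        (Away.mk (CohB1.polyGrading d R) (X_mem' d R j) n a ha)) * F j ^ n = aeval F a := by
    intro j j' hx n a ha
    show l (awayMap (CohB1.polyGrading d R) (X_mem' d R j') hx
      (Away.mk (CohB1.polyGrading d R) (X_mem' d R j) n a ha)).val * _ = _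
    rw [val_awayMap, Away.val_mk]
    have hspec : Localization.mk a (⟨X j ^ n, n, rfl⟩ : Submonoid.powers (X j : MvPolynomial (Fin (d + 1)) R)) *
        algebraMap (MvPolynomial (Fin (d + 1)) R) (Localization.Away (X j)) (X j ^ n) =
          algebraMap _ _ a := by
      rw [Localization.mk_eq_mk']
      exact IsLocalization.mk'_spec _ _ _
    have h1 := congrArg (fun z => l (Localization.awayLift
      (algebraMap (MvPolynomial (Fin (d + 1)) R) L) (X j)
      (isUnit_of_dvd_unit (map_dvd _ ⟨X j', hx⟩) (IsLocalization.Away.algebraMap_isUnit _)) z)) hspec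
    simp only [map_mul, Localization.awayLift, IsLocalization.Away.lift_eq, hl, map_pow, aeval_X,
      AlgHom.toRingHom_eq_coe, RingHom.coe_coe] at h1
    exact h1
  have e1 : awayHom s F = h.comp (awayMap (CohB1.polyGrading d R) (X_mem' d R t) rfl) := by
    refine RingHom.ext fun z => ?_
    obtain ⟨n, a, ha, rfl⟩ := Away.mk_surjective (CohB1.polyGrading d R) (X_mem' d R s) z
    have h1 := key s t rfl n a ha
    rw [hs, one_pow, mul_one] at h1
    rw [RingHom.comp_apply, h1, awayHom_mk s F hs]
  have e2 : awayHom t G = h.comp (awayMap (CohB1.polyGrading d R) (X_mem' d R s)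
      (mul_comm (X s) (X t))) := by
    refine RingHom.ext fun z => ?_
    obtain ⟨n, a, ha, rfl⟩ := Away.mk_surjective (CohB1.polyGrading d R) (X_mem' d R t) z
    have h1 := key t s (mul_comm _ _) n a ha
    have hhom : a.IsHomogeneous n := by simpa using ha
    rw [show aeval F a = F t ^ n * aeval G a by
      rw [← aeval_mul_of_isHomogeneous (F t) G hhom, ← funext hFG], mul_comm] at h1
    rw [awayHom_mk t G ht, RingHom.comp_apply, (hu.pow n).mul_right_inj.mp h1]
  rw [vecMor_eq_awayHom, vecMor_eq_awayHom, e1, e2]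
  simp only [CommRingCat.ofHom_comp, Spec.map_comp, Category.assoc, Proj.SpecMap_awayMap_awayι]

/-- Which chart a point lies in. -/
theorem vecMor_mem_range_chart (s j : Fin (d + 1)) (F : Fin (d + 1) → A) (hs : F s = 1)
    (q : PrimeSpectrum A) :
    vecMor (R := R) s F q ∈ (ProjSpace.chart d R j).opensRange ↔ F j ∉ q.asIdeal := by
  rw [opensRange_chart, vecMor_eq_awayHom, Scheme.Hom.comp_apply]
  change Spec.map (CommRingCat.ofHom (awayHom (R := R) s F)) q ∈
    (Proj.awayι (CohB1.polyGrading d R) (X s) (X_mem' d R s) Nat.one_pos) ⁻¹ᵁ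
      Proj.basicOpen (CohB1.polyGrading d R) (X j) ↔ _
  rw [Proj.awayι_preimage_basicOpen _ (X_mem' d R s) Nat.one_pos (X_mem' d R j) Nat.one_pos]
  show awayHom s F (Away.isLocalizationElem (X_mem' d R s) (X_mem' d R j)) ∉ q.asIdeal ↔ _
  rw [Away.isLocalizationElem, show (Away.mk (CohB1.polyGrading d R) (X_mem' d R s) 1
      ((X j : MvPolynomial (Fin (d + 1)) R) ^ 1) _) = _ from rfl, awayHom_mk s F hs]
  simp

end Groth.Agent.GrassLib
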