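import Groth.Agent.Lib.Grass.Glue

/-!
# Any scheme representing the Grassmannian functor on affine schemes is the glued one
-/

set_option autoImplicit false
set_option backward.isDefEq.respectTransparency false
universe u

open TensorProduct Module CategoryTheory Limits AlgebraicGeometry

namespace Groth.Agent.GrassLib

variable (R : Type u) [CommRing R] (M : Type u) [AddCommGroup M] [Module R M] (k : ℕ)

/-- A scheme over `Spec R` with bijections between its affine points and those of the Grassmannian. -/
structure Rep (X : Over (Spec (CommRingCat.of R))) where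
  /-- the bijections -/
  e : ∀ A : CommAlgCat.{u} R, (Over.mk (str R A) ⟶ X) ≃
    (Module.Grassmannian.functor (R := R) (M := M) k).obj A
  natural : ∀ (A B : CommAlgCat.{u} R) (φ : A ⟶ B) (g : Over.mk (str R A) ⟶ X)
    (g' : Over.mk (str R B) ⟶ X),
    g'.left = Spec.map (CommRingCat.ofHom φ.hom.toRingHom) ≫ g.left →
      e B g' = (Module.Grassmannian.functor (R := R) (M := M) k).map φ (e A g)

variable {R M k}
variable {X : Over (Spec (CommRingCat.of R))} (hX : Rep R M k X)
variable {A B : Type u} [CommRing A] [Algebra R A] [CommRing B] [Algebra R B]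

/-- The point attached to a morphism. -/
noncomputable def Rep.pt (g : Spec (CommRingCat.of A) ⟶ X.left) (hg : g ≫ X.hom = str R A) :
    Pt R M k A :=
  hX.e (CommAlgCat.of R A) (Over.homMk g hg)

/-- The morphism attached to a point. -/
noncomputable def Rep.mor (N : Pt R M k A) : Spec (CommRingCat.of A) ⟶ X.left :=
  ((hX.e (CommAlgCat.of R A)).symm N).left

lemma Rep.mor_str (N : Pt R M k A) : hX.mor N ≫ X.hom = str R A :=
  Over.w ((hX.e (CommAlgCat.of R A)).symm N)

lemma Rep.mor_pt (g : Spec (CommRingCat.of A) ⟶ X.left) (hg : g ≫ X.hom = str R A) :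
    hX.mor (hX.pt g hg) = g := by
  show ((hX.e (CommAlgCat.of R A)).symm (hX.e (CommAlgCat.of R A) (Over.homMk g hg))).left = g
  rw [Equiv.symm_apply_apply]
  rfl

lemma Rep.pt_mor (N : Pt R M k A) : hX.pt (hX.mor N) (hX.mor_str N) = N := by
  show hX.e (CommAlgCat.of R A) ((hX.e (CommAlgCat.of R A)).symm N) = N
  exact (hX.e (CommAlgCat.of R A)).apply_symm_apply N

lemma Rep.mor_injective {N N' : Pt R M k A} (h : hX.mor N = hX.mor N') : N = N' := by
  rw [← hX.pt_mor N, ← hX.pt_mor N']
  congr 1

lemma Rep.sp_mor (φ : A →ₐ[R] B) (N : Pt R M k A) : sp φ ≫ hX.mor N = hX.mor (gmap φ N) := by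
  have hg : (sp φ ≫ hX.mor N) ≫ X.hom = str R B := by rw [Category.assoc, hX.mor_str, sp_str]
  have h := hX.natural (CommAlgCat.of R A) (CommAlgCat.of R B) (CommAlgCat.ofHom φ)
    ((hX.e (CommAlgCat.of R A)).symm N) (Over.homMk (sp φ ≫ hX.mor N) hg) rfl
  rw [Equiv.apply_symm_apply] at h
  have h' : hX.pt (sp φ ≫ hX.mor N) hg = gmap φ N := h
  rw [← h', hX.mor_pt]

/-- The comparison morphism from the glued Grassmannian. -/
noncomputable def Rep.comparison : Gr R M k ⟶ X.left :=
  colimit.desc (diag R M k)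
    ⟨_, { app := fun S => hX.mor (ChartSet.pt R (OrderDual.ofDual S))
          naturality := fun T S h => by
            simp only [Functor.const_obj_obj, Functor.const_obj_map, Category.comp_id]
            show sp _ ≫ _ = _
            rw [hX.sp_mor, ChartSet.gmap_res] }⟩

lemma Rep.inc_comparison (S : ChartSet M k) :
    inc S ≫ hX.comparison = hX.mor (ChartSet.pt R S) :=
  colimit.ι_desc _ _

lemma Rep.comparison_hom : hX.comparison ≫ X.hom = toBase R M k :=
  colimit.hom_ext fun S => by
    show inc (OrderDual.ofDual S) ≫ _ = inc (OrderDual.ofDual S) ≫ _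
    rw [← Category.assoc, hX.inc_comparison, hX.mor_str, inc_toBase]

lemma Rep.classify_comparison (N : Pt R M k A) : classify N ≫ hX.comparison = hX.mor N := by
  obtain ⟨ι, _, f, x, hf, hx⟩ := exists_chart_cover N
  refine hom_ext_span (R := R) f hf _ _ fun i => ?_
  rw [← Category.assoc, classify_spec N _ _ _ (hx i), chartMor, Category.assoc,
    hX.inc_comparison, hX.sp_mor, hX.sp_mor, ChartSet.gmap_desc]

lemma Rep.eq_of_comp_comparison (g g' : Spec (CommRingCat.of A) ⟶ Gr R M k)
    (hg : g ≫ toBase R M k = str R A) (h : g ≫ hX.comparison = g' ≫ hX.comparison) : g = g' := by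
  have hg' : g' ≫ toBase R M k = str R A := by
    rw [← hX.comparison_hom, ← Category.assoc, ← h, Category.assoc, hX.comparison_hom, hg]
  obtain ⟨N, rfl⟩ := classify_surjective g hg
  obtain ⟨N', rfl⟩ := classify_surjective g' hg'
  rw [hX.classify_comparison, hX.classify_comparison] at h
  rw [hX.mor_injective h]

lemma Rep.exists_lift (g : Spec (CommRingCat.of A) ⟶ X.left) (hg : g ≫ X.hom = str R A) :
    ∃ g' : Spec (CommRingCat.of A) ⟶ Gr R M k, g' ≫ hX.comparison = g :=
  ⟨classify (hX.pt g hg), by rw [hX.classify_comparison, hX.mor_pt]⟩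

/-- A morphism from an affine scheme over `Spec R` makes its ring an `R`-algebra. -/
lemma exists_algebra_str {C : CommRingCat.{u}} (g : Spec C ⟶ Spec (CommRingCat.of R)) :
    ∃ i : Algebra R C, Spec.map (CommRingCat.ofHom (@algebraMap R C _ _ i)) = g :=
  ⟨(Spec.preimage g).hom.toAlgebra, Spec.map_preimage g⟩

lemma Rep.exists_lift' {C : CommRingCat.{u}} (g : Spec C ⟶ X.left) :
    ∃ g' : Spec C ⟶ Gr R M k, g' ≫ hX.comparison = g := by
  obtain ⟨alg, halg⟩ := exists_algebra_str (R := R) (g ≫ X.hom)
  let _ := alg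
  exact hX.exists_lift g halg.symm

lemma Rep.eq_of_comp_comparison' {C : CommRingCat.{u}} (g g' : Spec C ⟶ Gr R M k)
    (h : g ≫ hX.comparison = g' ≫ hX.comparison) : g = g' := by
  obtain ⟨alg, halg⟩ := exists_algebra_str (R := R) (g ≫ toBase R M k)
  let _ := alg
  exact hX.eq_of_comp_comparison g g' halg.symm h

lemma Rep.isIso_comparison : IsIso hX.comparison := by
  let 𝒰 := X.left.affineCover
  have lift : ∀ i, ∃ l, l ≫ hX.comparison = 𝒰.f i := fun i => hX.exists_lift' _
  choose l hl using lift
  have hagree : ∀ i j, pullback.fst (𝒰.f i) (𝒰.f j) ≫ l i = pullback.snd _ _ ≫ l j := by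
    intro i j
    refine (pullback (𝒰.f i) (𝒰.f j)).affineCover.hom_ext _ _ fun m => ?_
    refine hX.eq_of_comp_comparison' _ _ ?_
    simp only [Category.assoc, hl, pullback.condition]
  let inv : X.left ⟶ Gr R M k := 𝒰.glueMorphisms l hagree
  refine ⟨inv, ?_, ?_⟩
  · refine colimit.hom_ext fun S => ?_
    show inc (OrderDual.ofDual S) ≫ _ = inc (OrderDual.ofDual S) ≫ 𝟙 _
    rw [Category.comp_id]
    refine hX.eq_of_comp_comparison (A := ChartSet.CRing R (OrderDual.ofDual S)) _ _ ?_ ?_
    · have hinv : inv ≫ toBase R M k = X.hom := 𝒰.hom_ext _ _ fun i => by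
        rw [𝒰.ι_glueMorphisms_assoc, ← hX.comparison_hom, ← Category.assoc, hl]
      simp only [Category.assoc, hinv, hX.comparison_hom, inc_toBase]
    · have h1 : inv ≫ hX.comparison = 𝟙 _ := 𝒰.hom_ext _ _ fun i => by
        rw [𝒰.ι_glueMorphisms_assoc, hl, Category.comp_id]
      simp only [Category.assoc, h1, Category.comp_id]
  · refine 𝒰.hom_ext _ _ fun i => ?_
    rw [𝒰.ι_glueMorphisms_assoc, hl, Category.comp_id]

/-- The isomorphism with the glued Grassmannian. -/
noncomputable def Rep.iso : grOver R M k ≅ X :=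
  haveI := hX.isIso_comparison
  Over.isoMk (asIso hX.comparison) hX.comparison_hom

/-- The open subscheme of a chart. -/
noncomputable def Rep.chartInc (x : Fin k → M) :
    Spec (CommRingCat.of (ChartSet.CRing R (single x))) ⟶ X.left :=
  inc (single x) ≫ hX.comparison

instance (x : Fin k → M) : IsOpenImmersion (hX.chartInc x) :=
  haveI := hX.isIso_comparison
  inferInstanceAs (IsOpenImmersion (inc (single x) ≫ hX.comparison))

lemma Rep.chartInc_hom (x : Fin k → M) :
    hX.chartInc x ≫ X.hom = str R (ChartSet.CRing R (single x)) := by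
  rw [Rep.chartInc, Category.assoc, hX.comparison_hom, inc_toBase]

lemma Rep.chartInc_covers (p : X.left) : ∃ x : Fin k → M, p ∈ Set.range (hX.chartInc x) := by
  haveI := hX.isIso_comparison
  obtain ⟨S, q, hq⟩ := inc_jointly_surjective ((asIso hX.comparison).inv p)
  refine ⟨S.base, sp (ChartSet.res (R := R) (S := single S.base) (T := S)
    (Finset.singleton_subset_iff.mpr S.base_mem)) q, ?_⟩
  rw [Rep.chartInc, ← Scheme.Hom.comp_apply, ← Category.assoc, sp_res_inc,
    Scheme.Hom.comp_apply, hq, ← Scheme.Hom.comp_apply]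
  simp

end Groth.Agent.GrassLib
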