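import Mathlib

/-!
# Charts of the Grassmannian functor of an arbitrary module

For `x : Fin k → M`, a point `N` of the Grassmannian at `A` lies in the chart of `x` if the classes
of the `1 ⊗ x i` generate the quotient (and are then a basis of it).
-/

set_option autoImplicit false
universe u

open TensorProduct Module

namespace Groth.Agent.GrassLib

variable {R : Type u} [CommRing R] {M : Type u} [AddCommGroup M] [Module R M] {k : ℕ}
variable {A B : Type u} [CommRing A] [Algebra R A] [CommRing B] [Algebra R B]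

variable (R M k A) in
/-- The points over `A` of the Grassmannian of rank `k` quotients of `M`. -/
abbrev Pt := Module.Grassmannian A (A ⊗[R] M) k

/-- Extension of scalars on elements along an algebra map. -/
noncomputable abbrev tm (φ : A →ₐ[R] B) : A ⊗[R] M →ₗ[R] B ⊗[R] M :=
  LinearMap.rTensor M φ.toLinearMap

lemma tm_smul (φ : A →ₐ[R] B) (a : A) (v : A ⊗[R] M) :
    tm φ (a • v) = φ a • tm φ v := by
  induction v using TensorProduct.induction_on with
  | zero => simp
  | tmul b m => simp [TensorProduct.smul_tmul']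
  | add p q hp hq => simp only [smul_add, map_add, hp, hq]

variable (A) in
/-- The map `A^k → A ⊗ M` given by `x`. -/
noncomputable def lc (x : Fin k → M) : (Fin k → A) →ₗ[A] A ⊗[R] M :=
  Fintype.linearCombination A (fun i => (1 : A) ⊗ₜ[R] x i)

lemma lc_apply (x : Fin k → M) (a : Fin k → A) : lc (R := R) A x a = ∑ i, a i ⊗ₜ[R] x i := by
  simp [lc, Fintype.linearCombination_apply, TensorProduct.smul_tmul']

lemma lc_single (x : Fin k → M) (i : Fin k) :
    lc (R := R) A x (Pi.single i 1) = (1 : A) ⊗ₜ[R] x i := by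
  classical
  simp [lc]

lemma tm_lc (φ : A →ₐ[R] B) (x : Fin k → M) (a : Fin k → A) :
    tm φ (lc A x a) = lc B x (fun i => φ (a i)) := by
  simp [lc_apply]

/-- `N` lies in the chart of `x`: the `1 ⊗ x i` generate the quotient. -/
def InChart (x : Fin k → M) (N : Pt R M k A) : Prop :=
  Function.Surjective (N.toSubmodule.mkQ ∘ₗ lc A x)

lemma inChart_iff (x : Fin k → M) (N : Pt R M k A) :
    InChart x N ↔ ∀ v : A ⊗[R] M, ∃ a, v - lc A x a ∈ N.toSubmodule := by
  constructor
  · intro h v
    obtain ⟨a, ha⟩ := h (N.toSubmodule.mkQ v)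
    refine ⟨a, ?_⟩
    rw [← Submodule.Quotient.mk_eq_zero, Submodule.Quotient.mk_sub]
    simp only [LinearMap.coe_comp, Function.comp_apply, Submodule.mkQ_apply] at ha
    rw [ha, sub_self]
  · intro h q
    obtain ⟨v, rfl⟩ := Submodule.mkQ_surjective _ q
    obtain ⟨a, ha⟩ := h v
    refine ⟨a, ?_⟩
    rw [← Submodule.Quotient.mk_eq_zero, Submodule.Quotient.mk_sub, sub_eq_zero] at ha
    simpa using ha.symm

lemma bijective_of_surjective_of_rank {Q : Type u} [AddCommGroup Q] [Module A Q]
    [Module.Finite A Q] [Module.Projective A Q] (hQ : ∀ p, rankAtStalk (R := A) Q p = k)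
    (f : (Fin k → A) →ₗ[A] Q) (hf : Function.Surjective f) : Function.Bijective f := by
  refine ⟨?_, hf⟩
  obtain ⟨g, hg⟩ := Module.projective_lifting_property f LinearMap.id hf
  have hfg : ∀ q, f (g q) = q := fun q => LinearMap.congr_fun hg q
  let P : (Fin k → A) →ₗ[A] LinearMap.ker f :=
    LinearMap.codRestrict _ (LinearMap.id - g ∘ₗ f) (fun v => by simp [hfg])
  have hP : Function.Surjective P := fun v => ⟨v.1, Subtype.ext (by
    simp [P, LinearMap.mem_ker.mp v.2])⟩
  haveI : Module.Finite A (LinearMap.ker f) := Module.Finite.of_surjective P hP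
  haveI : Module.Projective A (LinearMap.ker f) :=
    Module.Projective.of_split (LinearMap.ker f).subtype P (by
      ext v; simp [P, LinearMap.mem_ker.mp v.2])
  let e : (Fin k → A) ≃ₗ[A] Q × LinearMap.ker f :=
    LinearEquiv.ofLinear (f.prod P) (g.coprod (LinearMap.ker f).subtype) (by
        refine LinearMap.ext fun v => Prod.ext ?_ (Subtype.ext ?_)
        · simp [hfg, LinearMap.mem_ker.mp v.2.2]
        · simp [P, hfg, LinearMap.mem_ker.mp v.2.2]) (by
        refine LinearMap.ext fun v => ?_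
        simp [P])
  have hs : Subsingleton (LinearMap.ker f) := by
    rw [← rankAtStalk_eq_zero_iff_subsingleton (R := A)]
    funext p
    haveI : Nontrivial A := PrimeSpectrum.nonempty_iff_nontrivial.mp ⟨p⟩
    have h1 := congrArg (fun r => r p) (rankAtStalk_eq_of_equiv (R := A) e)
    simp only [rankAtStalk_prod, Pi.add_apply, hQ, rankAtStalk_eq_finrank_of_free,
      Module.finrank_fin_fun] at h1
    simp only [Pi.zero_apply]
    simpa using h1
  rw [← LinearMap.ker_eq_bot]
  exact Submodule.subsingleton_iff_eq_bot.mp hs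

namespace InChart

variable {x : Fin k → M} {N : Pt R M k A} (h : InChart x N)

/-- The basis of the quotient given by `x`. -/
noncomputable def equiv : (Fin k → A) ≃ₗ[A] (A ⊗[R] M) ⧸ N.toSubmodule :=
  LinearEquiv.ofBijective (N.toSubmodule.mkQ ∘ₗ lc A x)
    (bijective_of_surjective_of_rank N.rankAtStalk_eq _ h)

/-- The coordinates in the chart of `x`. -/
noncomputable def ell : M →ₗ[R] (Fin k → A) :=
  (h.equiv.symm.toLinearMap ∘ₗ N.toSubmodule.mkQ).restrictScalars R ∘ₗ TensorProduct.mk R A M 1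

lemma liftBaseChange_ell :
    h.ell.liftBaseChange A = h.equiv.symm.toLinearMap ∘ₗ N.toSubmodule.mkQ := by
  ext m
  simp [ell]

lemma ker_eq : N.toSubmodule = LinearMap.ker (h.ell.liftBaseChange A) := by
  rw [liftBaseChange_ell, LinearMap.ker_comp, LinearEquiv.ker, Submodule.comap_bot,
    Submodule.ker_mkQ]

lemma mem_iff (v : A ⊗[R] M) : v ∈ N.toSubmodule ↔ h.ell.liftBaseChange A v = 0 :=
  (SetLike.ext_iff.mp h.ker_eq v).trans LinearMap.mem_ker

lemma ell_apply_x (i : Fin k) : h.ell (x i) = Pi.single i 1 := by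
  simp only [ell, LinearMap.coe_comp, Function.comp_apply, TensorProduct.mk_apply,
    LinearMap.coe_restrictScalars, LinearEquiv.coe_coe]
  rw [LinearEquiv.symm_apply_eq]
  simp [equiv, lc_single]

lemma sub_mem (m : M) : (1 : A) ⊗ₜ[R] m - lc A x (h.ell m) ∈ N.toSubmodule := by
  rw [← Submodule.Quotient.mk_eq_zero, Submodule.Quotient.mk_sub, sub_eq_zero]
  have := h.equiv.apply_symm_apply (N.toSubmodule.mkQ ((1 : A) ⊗ₜ[R] m))
  exact this.symm

end InChart

lemma liftBaseChange_lc (x : Fin k → M) (ℓ : M →ₗ[R] (Fin k → A))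
    (hℓ : ∀ i, ℓ (x i) = Pi.single i 1) (a : Fin k → A) :
    ℓ.liftBaseChange A (lc A x a) = a := by
  classical
  rw [lc_apply, map_sum]
  funext j
  simp [hℓ, Pi.single_apply]

lemma InChart.ell_eq {x : Fin k → M} {N : Pt R M k A} (h : InChart x N) (ℓ : M →ₗ[R] (Fin k → A))
    (hℓ : ∀ i, ℓ (x i) = Pi.single i 1) (hN : N.toSubmodule ≤ LinearMap.ker (ℓ.liftBaseChange A)) :
    h.ell = ℓ := by
  refine LinearMap.ext fun m => ?_
  have h1 := LinearMap.mem_ker.mp (hN (h.sub_mem m))
  rw [map_sub, liftBaseChange_lc x ℓ hℓ, sub_eq_zero] at h1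
  simpa using h1.symm

/-- The point with prescribed coordinates. -/
noncomputable def ofEll (x : Fin k → M) (ℓ : M →ₗ[R] (Fin k → A))
    (hℓ : ∀ i, ℓ (x i) = Pi.single i 1) : Pt R M k A :=
  have hs : Function.Surjective (ℓ.liftBaseChange A) :=
    fun a => ⟨lc A x a, liftBaseChange_lc x ℓ hℓ a⟩
  { toSubmodule := LinearMap.ker (ℓ.liftBaseChange A)
    finite_quotient := Module.Finite.equiv ((ℓ.liftBaseChange A).quotKerEquivOfSurjective hs).symm
    projective_quotient :=
      Module.Projective.of_equiv ((ℓ.liftBaseChange A).quotKerEquivOfSurjective hs).symm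
    rankAtStalk_eq := fun p => by
      haveI : Nontrivial A := PrimeSpectrum.nonempty_iff_nontrivial.mp ⟨p⟩
      rw [rankAtStalk_eq_of_equiv ((ℓ.liftBaseChange A).quotKerEquivOfSurjective hs),
        rankAtStalk_eq_finrank_of_free, Pi.natCast_apply, Module.finrank_fin_fun]
      rfl }

lemma ofEll_toSubmodule (x : Fin k → M) (ℓ : M →ₗ[R] (Fin k → A))
    (hℓ : ∀ i, ℓ (x i) = Pi.single i 1) :
    (ofEll x ℓ hℓ).toSubmodule = LinearMap.ker (ℓ.liftBaseChange A) := rfl

lemma inChart_ofEll (x : Fin k → M) (ℓ : M →ₗ[R] (Fin k → A))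
    (hℓ : ∀ i, ℓ (x i) = Pi.single i 1) : InChart x (ofEll x ℓ hℓ) := by
  rw [inChart_iff]
  intro v
  refine ⟨ℓ.liftBaseChange A v, ?_⟩
  rw [ofEll_toSubmodule, LinearMap.mem_ker, map_sub, liftBaseChange_lc x ℓ hℓ, sub_self]

lemma ell_ofEll {x : Fin k → M} {ℓ : M →ₗ[R] (Fin k → A)}
    {hℓ : ∀ i, ℓ (x i) = Pi.single i 1} (h : InChart x (ofEll x ℓ hℓ)) : h.ell = ℓ :=
  h.ell_eq ℓ hℓ le_rfl

/-! ### Base change -/

/-- The image of a point along an algebra map. -/
noncomputable abbrev gmap (φ : A →ₐ[R] B) (N : Pt R M k A) : Pt R M k B :=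
  Module.Grassmannian.map φ N

lemma gmap_id (N : Pt R M k A) : gmap (AlgHom.id R A) N = N :=
  Module.Grassmannian.map_id (R := R) (M := M) k (CommAlgCat.of R A) N

lemma gmap_comp {C : Type u} [CommRing C] [Algebra R C] (φ : A →ₐ[R] B) (ψ : B →ₐ[R] C)
    (N : Pt R M k A) : gmap (ψ.comp φ) N = gmap ψ (gmap φ N) :=
  Module.Grassmannian.map_comp k φ ψ N

lemma gmap_toSubmodule [Algebra A B] [IsScalarTower R A B] (N : Pt R M k A) :
    (gmap (IsScalarTower.toAlgHom R A B) N).toSubmodule =
      LinearMap.ker (Module.Grassmannian.baseChangeMkQ B N.toSubmodule) := by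
  rename_i iAlg iTower
  have h : (IsScalarTower.toAlgHom R A B).toAlgebra = iAlg :=
    Algebra.algebra_ext _ _ fun _ => rfl
  have key : ∀ (φ : A →ₐ[R] B) (i : Algebra A B) (t : IsScalarTower R A B), φ.toAlgebra = i →
      (gmap φ N).toSubmodule =
        LinearMap.ker (Module.Grassmannian.baseChangeMkQ B N.toSubmodule) := by
    rintro φ i t rfl
    rfl
  exact key _ _ _ h

lemma baseChangeMkQ_tm [Algebra A B] [IsScalarTower R A B] (N : Submodule A (A ⊗[R] M))
    (v : A ⊗[R] M) :
    Module.Grassmannian.baseChangeMkQ B N (tm (IsScalarTower.toAlgHom R A B) v) =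
      (1 : B) ⊗ₜ[A] N.mkQ v := by
  induction v using TensorProduct.induction_on with
  | zero => simp
  | tmul a m =>
    simp only [Module.Grassmannian.baseChangeMkQ, LinearMap.rTensor_tmul, AlgHom.toLinearMap_apply,
      IsScalarTower.coe_toAlgHom', LinearMap.coe_comp, LinearEquiv.coe_coe, Function.comp_apply,
      AlgebraTensorModule.cancelBaseChange_symm_tmul, LinearMap.baseChange_tmul]
    rw [Algebra.algebraMap_eq_smul_one, TensorProduct.smul_tmul, ← map_smul]
    simp [TensorProduct.smul_tmul']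
  | add p q hp hq => simp only [map_add, hp, hq, TensorProduct.tmul_add]

lemma tm_mem_gmap (φ : A →ₐ[R] B) {N : Pt R M k A} {v : A ⊗[R] M} (hv : v ∈ N.toSubmodule) :
    tm φ v ∈ (gmap φ N).toSubmodule := by
  let _ : Algebra A B := φ.toAlgebra
  have : IsScalarTower R A B := IsScalarTower.of_algebraMap_eq' φ.comp_algebraMap.symm
  have h : φ = IsScalarTower.toAlgHom R A B := rfl
  rw [h, gmap_toSubmodule, LinearMap.mem_ker, baseChangeMkQ_tm, Submodule.mkQ_apply,
    (Submodule.Quotient.mk_eq_zero _).mpr hv, TensorProduct.tmul_zero]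

lemma InChart.gmap {x : Fin k → M} {N : Pt R M k A} (h : InChart x N) (φ : A →ₐ[R] B) :
    InChart x (gmap φ N) := by
  rw [inChart_iff]
  intro v
  induction v using TensorProduct.induction_on with
  | zero => exact ⟨0, by simp⟩
  | tmul b m =>
    refine ⟨b • fun i => φ (h.ell m i), ?_⟩
    have h1 := tm_mem_gmap φ (h.sub_mem m)
    rw [map_sub, tm_lc, LinearMap.rTensor_tmul, AlgHom.toLinearMap_apply, map_one] at h1
    have h2 := Submodule.smul_mem _ b h1
    rw [smul_sub, TensorProduct.smul_tmul', smul_eq_mul, mul_one, ← map_smul] at h2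
    exact h2
  | add p q hp hq =>
    obtain ⟨a, ha⟩ := hp
    obtain ⟨b, hb⟩ := hq
    refine ⟨a + b, ?_⟩
    rw [map_add, add_sub_add_comm]
    exact add_mem ha hb

lemma InChart.ell_gmap {x : Fin k → M} {N : Pt R M k A} (h : InChart x N) (φ : A →ₐ[R] B)
    (m : M) : (h.gmap φ).ell m = fun i => φ (h.ell m i) := by
  have h1 := ((h.gmap φ).mem_iff _).mp (tm_mem_gmap φ (h.sub_mem m))
  rw [map_sub, tm_lc, map_sub, liftBaseChange_lc x _ (h.gmap φ).ell_apply_x, sub_eq_zero] at h1
  simpa using h1

lemma InChart.ext {x : Fin k → M} {N N' : Pt R M k A} (h : InChart x N) (h' : InChart x N')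
    (he : h.ell = h'.ell) : N = N' :=
  Module.Grassmannian.ext (by rw [h.ker_eq, h'.ker_eq, he])

/-- The transition determinant from the chart of `x` to that of `y`. -/
noncomputable def InChart.det {x : Fin k → M} {N : Pt R M k A} (h : InChart x N)
    (y : Fin k → M) : A := (Matrix.of fun i j => h.ell (y j) i).det

lemma InChart.inChart_iff_isUnit_det {x : Fin k → M} {N : Pt R M k A} (h : InChart x N)
    (y : Fin k → M) : InChart y N ↔ IsUnit (h.det y) := by
  rw [InChart.det, ← Matrix.isUnit_iff_isUnit_det, ← Matrix.mulVec_surjective_iff_isUnit]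
  have key : ∀ a : Fin k → A, h.equiv ((Matrix.of fun i j => h.ell (y j) i).mulVec a) =
      (N.toSubmodule.mkQ ∘ₗ lc A y) a := by
    intro a
    rw [← LinearEquiv.eq_symm_apply, ← LinearEquiv.coe_coe, ← LinearMap.comp_apply,
      ← LinearMap.comp_assoc, ← h.liftBaseChange_ell, LinearMap.comp_apply, lc_apply, map_sum]
    funext i
    simp [Matrix.mulVec, dotProduct, mul_comm]
  constructor
  · intro hy a
    obtain ⟨b, hb⟩ := hy (h.equiv a)
    exact ⟨b, h.equiv.injective ((key b).trans hb)⟩
  · intro hy q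
    obtain ⟨b, hb⟩ := hy (h.equiv.symm q)
    exact ⟨b, by rw [← key, hb, LinearEquiv.apply_symm_apply]⟩

lemma InChart.det_gmap {x : Fin k → M} {N : Pt R M k A} (h : InChart x N) (φ : A →ₐ[R] B)
    (y : Fin k → M) : (h.gmap φ).det y = φ (h.det y) := by
  simp only [InChart.det]
  rw [AlgHom.map_det]
  congr 1
  ext i j
  simp [h.ell_gmap φ]

/-- Every point is, near any prime, in some chart. -/
lemma exists_inChart_away (N : Pt R M k A) (p : PrimeSpectrum A) :
    ∃ f : A, f ∉ p.asIdeal ∧ ∃ x : Fin k → M,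
      InChart x (GrassLib.gmap (IsScalarTower.toAlgHom R A (Localization.Away f)) N) := by
  classical
  let K := p.asIdeal.ResidueField
  let Q := (A ⊗[R] M) ⧸ N.toSubmodule
  let w : M → K ⊗[A] Q := fun m => (1 : K) ⊗ₜ[A] N.toSubmodule.mkQ ((1 : A) ⊗ₜ[R] m)
  have hrank : Module.finrank K (K ⊗[A] Q) = k := by
    have q : PrimeSpectrum K := ⟨⊥, Ideal.isPrime_bot⟩
    have h := rankAtStalk_baseChange (R := A) (M := Q) (S := K) q
    rw [rankAtStalk_eq_finrank_of_free, N.rankAtStalk_eq] at h
    simpa using h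
  have hspan : Submodule.span K (Set.range w) = ⊤ := by
    rw [eq_top_iff]
    rintro v -
    induction v using TensorProduct.induction_on with
    | zero => exact zero_mem _
    | tmul c q =>
      obtain ⟨t, rfl⟩ := Submodule.mkQ_surjective _ q
      induction t using TensorProduct.induction_on generalizing c with
      | zero => simp
      | tmul a m =>
        rw [show a ⊗ₜ[R] m = a • ((1 : A) ⊗ₜ[R] m) by simp [TensorProduct.smul_tmul'],
          map_smul, ← TensorProduct.smul_tmul]
        rw [show (a • c) ⊗ₜ[A] N.toSubmodule.mkQ ((1 : A) ⊗ₜ[R] m) = (a • c) • w m by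
          simp [w, TensorProduct.smul_tmul']]
        exact Submodule.smul_mem _ _ (Submodule.subset_span ⟨m, rfl⟩)
      | add s t hs ht => rw [map_add, TensorProduct.tmul_add]; exact add_mem (hs c) (ht c)
    | add s t hs ht => exact add_mem hs ht
  obtain ⟨b, hb, hbspan, hbli⟩ := exists_linearIndependent K (Set.range w)
  let B0 := Module.Basis.mk hbli (by rw [Subtype.range_coe]; rw [hbspan, hspan])
  haveI : Finite b := Module.Finite.finite_basis B0
  haveI : Fintype b := Fintype.ofFinite b
  have hcard : Fintype.card b = k := (Module.finrank_eq_card_basis B0).symm.trans hrank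
  let σ : Fin k ≃ b := (Fintype.equivFinOfCardEq hcard).symm
  choose x hx using fun i : Fin k => hb (σ i).2
  let g : (Fin k → A) →ₗ[A] Q := N.toSubmodule.mkQ ∘ₗ lc A x
  let C := Q ⧸ LinearMap.range g
  have hC : p ∉ Module.support A C := by
    rw [Module.mem_support_iff_nontrivial_residueField_tensorProduct, not_nontrivial_iff_subsingleton]
    have hz : ((LinearMap.range g).mkQ.baseChange K) = 0 := by
      refine (B0.reindex σ.symm).ext fun i => ?_
      simp only [Module.Basis.coe_reindex, Equiv.symm_symm, Function.comp_apply,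
        Module.Basis.coe_mk, B0, ← hx i, w, LinearMap.baseChange_tmul, LinearMap.zero_apply]
      rw [Submodule.mkQ_apply, (Submodule.Quotient.mk_eq_zero _).mpr, TensorProduct.tmul_zero]
      exact ⟨Pi.single i 1, by simp [g, lc_single]; rfl⟩
    refine subsingleton_of_forall_eq 0 fun v => ?_
    obtain ⟨v', rfl⟩ := LinearMap.baseChange_surjective K (LinearMap.range g).mkQ_surjective v
    rw [hz, LinearMap.zero_apply]
  rw [Module.mem_support_iff_of_finite, SetLike.not_le_iff_exists] at hC
  obtain ⟨f, hfC, hfp⟩ := hC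
  refine ⟨f, hfp, x, ?_⟩
  set φ := IsScalarTower.toAlgHom R A (Localization.Away f)
  have hu : IsUnit (φ f) := IsLocalization.Away.algebraMap_isUnit f
  rw [inChart_iff]
  intro v
  induction v using TensorProduct.induction_on with
  | zero => exact ⟨0, by simp⟩
  | tmul c m =>
    have h0 : f • (LinearMap.range g).mkQ (N.toSubmodule.mkQ ((1 : A) ⊗ₜ[R] m)) = 0 :=
      Module.mem_annihilator.mp hfC _
    rw [← map_smul, Submodule.mkQ_apply, Submodule.Quotient.mk_eq_zero] at h0
    obtain ⟨a, ha⟩ := h0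
    simp only [g, LinearMap.coe_comp, Function.comp_apply, Submodule.mkQ_apply] at ha
    replace ha := (Submodule.Quotient.eq _).mp ha
    have h1 := tm_mem_gmap φ ha
    rw [map_sub, tm_lc, tm_smul, LinearMap.rTensor_tmul, AlgHom.toLinearMap_apply, map_one] at h1
    refine ⟨(c * ↑hu.unit⁻¹) • fun i => φ (a i), ?_⟩
    have h2 := Submodule.smul_mem _ (-(c * ↑hu.unit⁻¹)) h1
    rw [neg_smul, ← smul_neg, neg_sub, smul_sub, smul_smul, mul_assoc, IsUnit.val_inv_mul,
      mul_one, ← map_smul, TensorProduct.smul_tmul', smul_eq_mul, mul_one] at h2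
    exact h2
  | add s t hs ht =>
    obtain ⟨a, ha⟩ := hs
    obtain ⟨a', ha'⟩ := ht
    refine ⟨a + a', ?_⟩
    rw [map_add, add_sub_add_comm]
    exact add_mem ha ha'

end Groth.Agent.GrassLib
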