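import Mathlib

/-!
# Closed subschemes cut out by a compatible family of ideals on affine test schemes
-/

set_option autoImplicit false
set_option backward.isDefEq.respectTransparency false
universe u

open CategoryTheory AlgebraicGeometry TopologicalSpace

namespace Groth.Agent.GrassLib

variable {X : Scheme.{u}} {B : CommRingCat.{u}}

/-- Restriction from the global sections of `Spec B`. -/
noncomputable abbrev resSpec (V : (Spec B).Opens) : B ⟶ Γ(Spec B, V) :=
  (Scheme.ΓSpecIso B).inv ≫ (Spec B).presheaf.map (homOfLE le_top).op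

lemma map_resSpec_eq_fromSpec {V : (Spec B).Opens} (hV : IsAffineOpen V) :
    Spec.map (resSpec V) = hV.fromSpec := by
  rw [resSpec, Spec.map_comp, ← Scheme.isoSpec_Spec_inv, ← IsAffineOpen.fromSpec_top,
    IsAffineOpen.map_fromSpec]

/-- An element of `B` vanishing on the members of an open cover is zero. -/
lemma eq_zero_of_resSpec {ι : Type*} (V : ι → (Spec B).Opens) (hV : ⨆ i, V i = ⊤) (a : B)
    (h : ∀ i, resSpec (V i) a = 0) : a = 0 := by
  apply (ConcreteCategory.bijective_of_isIso (Scheme.ΓSpecIso B).inv).1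
  rw [map_zero]
  refine TopCat.Sheaf.eq_of_locally_eq' (Spec B).sheaf V ⊤ (fun i => homOfLE le_top) (le_of_eq hV.symm)
    _ _ fun i => ?_
  rw [map_zero]
  exact h i

/-- A family of ideals on affine test schemes compatible with pullback. -/
structure IdealFamily (X : Scheme.{u}) where
  /-- the ideal on a test scheme -/
  J : ∀ {C : CommRingCat.{u}}, (Spec C ⟶ X) → Ideal C
  map_J : ∀ {C D : CommRingCat.{u}} (h : Spec C ⟶ X) (φ : C ⟶ D),
    (J h).map φ.hom = J (Spec.map φ ≫ h)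

namespace IdealFamily

variable (F : IdealFamily X)

/-- The ideal sheaf of the family. -/
noncomputable def idealSheaf : X.IdealSheafData :=
  { ideal := fun U => F.J U.2.fromSpec
    map_ideal_basicOpen := fun U f => by
      rw [F.map_J, IsAffineOpen.map_fromSpec U.2 (U.2.basicOpen f)] }

/-- A morphism from an affine scheme factors through the closed subscheme iff the ideal
vanishes. -/
theorem factors_iff (g : Spec B ⟶ X) :
    (∃ h : Spec B ⟶ F.idealSheaf.subscheme, h ≫ F.idealSheaf.subschemeι = g) ↔ F.J g = ⊥ := by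
  constructor
  · rintro ⟨h, rfl⟩
    set g := h ≫ F.idealSheaf.subschemeι with hgdef
    have hle : F.idealSheaf ≤ g.ker := by
      rw [← F.idealSheaf.ker_subschemeι, hgdef]
      exact Scheme.Hom.le_ker_comp _ _
    rw [eq_bot_iff]
    intro a ha
    rw [Ideal.mem_bot]
    let ι := {p : X.affineOpens × (Spec B).affineOpens // p.2.1 ≤ g ⁻¹ᵁ p.1.1}
    refine eq_zero_of_resSpec (fun p : ι => p.1.2.1) ?_ a fun p => ?_
    · rw [eq_top_iff]
      rintro x -
      obtain ⟨_, ⟨U, hU, rfl⟩, hxU, -⟩ :=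
        X.isBasis_affineOpens.exists_subset_of_mem_open (Set.mem_univ (g x)) isOpen_univ
      obtain ⟨_, ⟨V, hV, rfl⟩, hxV, hVU⟩ :=
        (Spec B).isBasis_affineOpens.exists_subset_of_mem_open
          (show x ∈ g ⁻¹ᵁ U from hxU) (g ⁻¹ᵁ U).2
      exact Opens.mem_iSup.mpr ⟨⟨(⟨U, hU⟩, ⟨V, hV⟩), hVU⟩, hxV⟩
    · obtain ⟨⟨U, V⟩, hVU⟩ := p
      have h1 : resSpec V.1 a ∈ F.J (Spec.map (resSpec V.1) ≫ g) :=
        F.map_J g (resSpec V.1) ▸ Ideal.mem_map_of_mem _ ha
      rw [map_resSpec_eq_fromSpec V.2, ← IsAffineOpen.SpecMap_appLE_fromSpec g U.2 V.2 hVU,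
        ← F.map_J] at h1
      have h2 : (F.J U.2.fromSpec).map (g.appLE U.1 V.1 hVU).hom ≤ ⊥ := by
        rw [Ideal.map_le_iff_le_comap]
        intro b hb
        have h3 : g.app U.1 b = 0 :=
          (g.ideal_ker_le U) (hle U hb)
        simp [Scheme.Hom.appLE, h3]
      exact h2 h1
  · intro hg
    refine ⟨IsClosedImmersion.lift F.idealSheaf.subschemeι g ?_, IsClosedImmersion.lift_fac _ _ _⟩
    rw [Scheme.IdealSheafData.ker_subschemeι]
    refine Scheme.IdealSheafData.le_ofIdeals_iff.mpr fun U b hb => ?_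
    rw [RingHom.mem_ker]
    let ι := {V : (Spec B).affineOpens // V.1 ≤ g ⁻¹ᵁ U.1}
    refine TopCat.Sheaf.eq_of_locally_eq' (Spec B).sheaf (fun V : ι => V.1.1) (g ⁻¹ᵁ U.1)
      (fun V => homOfLE V.2) ?_ _ _ fun V => ?_
    · intro x hx
      obtain ⟨_, ⟨V, hV, rfl⟩, hxV, hVU⟩ :=
        (Spec B).isBasis_affineOpens.exists_subset_of_mem_open hx (g ⁻¹ᵁ U.1).2
      exact Opens.mem_iSup.mpr ⟨⟨⟨V, hV⟩, hVU⟩, hxV⟩
    · rw [map_zero]
      obtain ⟨V, hVU⟩ := V
      have h1 : g.appLE U.1 V.1 hVU b ∈ F.J (Spec.map (g.appLE U.1 V.1 hVU) ≫ U.2.fromSpec) :=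
        F.map_J U.2.fromSpec (g.appLE U.1 V.1 hVU) ▸ Ideal.mem_map_of_mem _ hb
      rw [IsAffineOpen.SpecMap_appLE_fromSpec g U.2 V.2 hVU, ← map_resSpec_eq_fromSpec V.2,
        ← F.map_J, hg, Ideal.map_bot, Ideal.mem_bot] at h1
      exact h1

end IdealFamily

end Groth.Agent.GrassLib
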