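import Groth.Agent.Lib.Grass.Desc

/-!
# Grassmannians of quotient modules
-/

set_option autoImplicit false
set_option backward.isDefEq.respectTransparency false
universe u

open TensorProduct Module CategoryTheory Limits AlgebraicGeometry

namespace Groth.Agent.GrassLib

variable {R : Type u} [CommRing R] {M₁ M₂ : Type u} [AddCommGroup M₁] [Module R M₁]
  [AddCommGroup M₂] [Module R M₂] {k : ℕ} (v : M₁ →ₗ[R] M₂) (hv : Function.Surjective v)
variable {A B : Type u} [CommRing A] [Algebra R A] [CommRing B] [Algebra R B]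

include hv in
lemma mkQ_baseChange_surjective (N : Pt R M₂ k A) :
    Function.Surjective (N.toSubmodule.mkQ ∘ₗ v.baseChange A) :=
  (Submodule.mkQ_surjective _).comp (LinearMap.baseChange_surjective A hv)

lemma ker_mkQ_baseChange (N : Pt R M₂ k A) :
    LinearMap.ker (N.toSubmodule.mkQ ∘ₗ v.baseChange A) =
      N.toSubmodule.comap (v.baseChange A) := by
  rw [LinearMap.ker_comp, Submodule.ker_mkQ]

/-- The equivalence between the two quotients. -/
noncomputable def comapQuotEquiv (N : Pt R M₂ k A) :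
    ((A ⊗[R] M₁) ⧸ N.toSubmodule.comap (v.baseChange A)) ≃ₗ[A] (A ⊗[R] M₂) ⧸ N.toSubmodule :=
  (Submodule.quotEquivOfEq _ _ (ker_mkQ_baseChange v N).symm).trans
    (LinearMap.quotKerEquivOfSurjective _ (mkQ_baseChange_surjective v hv N))

lemma comapQuotEquiv_mk (N : Pt R M₂ k A) (w : A ⊗[R] M₁) :
    comapQuotEquiv v hv N (Submodule.Quotient.mk w) = Submodule.Quotient.mk (v.baseChange A w) := by
  simp [comapQuotEquiv]

/-- The preimage of a point under a surjection. -/
noncomputable def comapPt (N : Pt R M₂ k A) : Pt R M₁ k A where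
  toSubmodule := N.toSubmodule.comap (v.baseChange A)
  finite_quotient := Module.Finite.equiv (comapQuotEquiv v hv N).symm
  projective_quotient := Module.Projective.of_equiv (comapQuotEquiv v hv N).symm
  rankAtStalk_eq p := (congrFun (rankAtStalk_eq_of_equiv (comapQuotEquiv v hv N)) p).trans
    (N.rankAtStalk_eq p)

lemma gmap_comapPt_aux [Algebra A B] [IsScalarTower R A B] (N : Pt R M₂ k A) :
    (gmap (IsScalarTower.toAlgHom R A B) (comapPt v hv N)).toSubmodule =
      (gmap (IsScalarTower.toAlgHom R A B) N).toSubmodule.comap (v.baseChange B) := by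
  rw [gmap_toSubmodule, gmap_toSubmodule, ← LinearMap.ker_comp]
  have h : (Module.Grassmannian.baseChangeMkQ B N.toSubmodule).comp (v.baseChange B) =
      ((comapQuotEquiv v hv N).baseChange A B).toLinearMap.comp
        (Module.Grassmannian.baseChangeMkQ B (comapPt v hv N).toSubmodule) := by
    ext m
    simp [Module.Grassmannian.baseChangeMkQ, comapPt, comapQuotEquiv_mk]
  rw [h, LinearEquiv.ker_comp]

lemma gmap_comapPt (φ : A →ₐ[R] B) (N : Pt R M₂ k A) :
    gmap φ (comapPt v hv N) = comapPt v hv (gmap φ N) := by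
  let _ : Algebra A B := φ.toAlgebra
  have : IsScalarTower R A B := IsScalarTower.of_algebraMap_eq' φ.comp_algebraMap.symm
  exact Module.Grassmannian.ext (gmap_comapPt_aux v hv N)

lemma baseChange_lc (x : Fin k → M₁) (a : Fin k → A) :
    v.baseChange A (lc A x a) = lc A (v ∘ x) a := by
  simp [lc_apply]

lemma inChart_comapPt (x : Fin k → M₁) (N : Pt R M₂ k A) :
    InChart x (comapPt v hv N) ↔ InChart (v ∘ x) N := by
  rw [inChart_iff, inChart_iff]
  constructor
  · intro h w
    obtain ⟨w', rfl⟩ := LinearMap.baseChange_surjective A hv w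
    obtain ⟨a, ha⟩ := h w'
    refine ⟨a, ?_⟩
    have ha' : v.baseChange A (w' - lc A x a) ∈ N.toSubmodule := ha
    rwa [map_sub, baseChange_lc] at ha'
  · intro h w
    obtain ⟨a, ha⟩ := h (v.baseChange A w)
    refine ⟨a, ?_⟩
    show v.baseChange A (w - lc A x a) ∈ N.toSubmodule
    rwa [map_sub, baseChange_lc]

lemma ell_comapPt {x : Fin k → M₁} {N : Pt R M₂ k A} (h : InChart x (comapPt v hv N))
    (h' : InChart (v ∘ x) N) : h.ell = h'.ell.comp v := by
  refine h.ell_eq _ (fun i => h'.ell_apply_x i) fun w hw => ?_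
  have hw' := (h'.mem_iff _).mp (show v.baseChange A w ∈ N.toSubmodule from hw)
  rw [LinearMap.mem_ker, ← hw']
  clear hw hw'
  induction w using TensorProduct.induction_on with
  | zero => simp
  | tmul a m => simp
  | add p q hp hq => rw [map_add, map_add, map_add, hp, hq]

variable {X₁ X₂ : Over (Spec (CommRingCat.of R))} (h₁ : Rep R M₁ k X₁) (h₂ : Rep R M₂ k X₂)

/-- The morphism of Grassmannians induced by a surjection. -/
noncomputable def comapMor : X₂.left ⟶ X₁.left :=
  h₂.desc (fun _ _ _ N => h₁.mor (comapPt v hv N)) fun A B _ _ _ _ φ N => by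
    rw [h₁.sp_mor, gmap_comapPt]

lemma mor_comapMor (N : Pt R M₂ k A) :
    h₂.mor N ≫ comapMor v hv h₁ h₂ = h₁.mor (comapPt v hv N) :=
  h₂.mor_desc _ _ N

lemma comapMor_hom : comapMor v hv h₁ h₂ ≫ X₁.hom = X₂.hom :=
  h₂.hom_ext fun x => by rw [← Category.assoc, mor_comapMor, h₁.mor_str, h₂.mor_str]

lemma coords_mem_range (ψ : A →ₐ[R] B) {x : Fin k → M₁} (P : Pt R M₁ k A) (hP : InChart x P)
    (N : Pt R M₂ k B) (hN : InChart (v ∘ x) N) (e : gmap ψ P = comapPt v hv N) (m : M₂)
    (i : Fin k) : hN.ell m i ∈ ψ.range := by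
  obtain ⟨m', rfl⟩ := hv m
  refine ⟨hP.ell m' i, ?_⟩
  have e' : ∀ {P' : Pt R M₁ k B} (hP' : InChart x P'),
      P' = comapPt v hv N → hP'.ell = hN.ell.comp v := by
    rintro P' hP' rfl; exact ell_comapPt v hv hP' hN
  have h := congr_fun (LinearMap.congr_fun (e' (hP.gmap ψ) e) m') i
  rw [hP.ell_gmap] at h
  exact h

include hv in
theorem isClosedImmersion_comap (c : X₂.left ⟶ X₁.left)
    (hc : ∀ (A : Type u) [CommRing A] [Algebra R A] (N : Pt R M₂ k A),
      h₂.mor N ≫ c = h₁.mor (comapPt v hv N)) : IsClosedImmersion c := by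
  let ψ : ∀ x : Fin k → M₁, ChartSet.CRing R (single x) →ₐ[R]
      ChartSet.CRing R (single (v ∘ x)) := fun x =>
    ChartSet.desc (single_inChart ((inChart_comapPt v hv x _).mpr (inChart_upt (R := R) (v ∘ x))))
  have hψ : ∀ x, gmap (ψ x) (upt x) = comapPt v hv (upt (v ∘ x)) := fun x => ChartSet.gmap_desc _
  refine isClosedImmersion_of_charts c (fun x : Fin k → M₁ => h₁.chartInc x)
    (fun y => h₁.chartInc_covers y) (fun x => h₂.chartInc (v ∘ x)) (fun x => sp (ψ x))
    (fun x => IsClosedImmersion.spec_of_surjective _ ?_) (fun x => ?_) fun x w hw => ?_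
  · show Function.Surjective (ψ x)
    exact surjective_of_coords _ _
      (coords_mem_range v hv (ψ x) _ (inChart_upt x) _ (inChart_upt (v ∘ x)) (hψ x))
  · rw [← h₂.mor_upt, hc, h₁.sp_chartInc, hψ]
  · obtain ⟨y, q, rfl⟩ := h₂.chartInc_covers w
    rw [← Scheme.Hom.comp_apply, ← h₂.mor_upt, hc, h₁.mem_range_chartInc, gmap_comapPt,
      inChart_comapPt, ← h₂.mem_range_chartInc, h₂.mor_upt] at hw
    exact hw

end Groth.Agent.GrassLib
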