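import Groth.Agent.Lib.Grass.Point

/-!
# Morphisms out of a Grassmannian, and a criterion for closed immersions
-/

set_option autoImplicit false
set_option backward.isDefEq.respectTransparency false
universe u

open TensorProduct Module CategoryTheory Limits AlgebraicGeometry

namespace Groth.Agent.GrassLib

/-- A morphism is a closed immersion if over each member of an open cover of the target it is,
up to isomorphism, a closed immersion. -/
lemma isClosedImmersion_of_charts {W Y : Scheme.{u}} (f : W ⟶ Y) {ι : Type u}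
    {V : ι → Scheme.{u}} (j : ∀ i, V i ⟶ Y) [∀ i, IsOpenImmersion (j i)]
    (hcov : ∀ y, ∃ i, y ∈ Set.range (j i)) {U : ι → Scheme.{u}} (l : ∀ i, U i ⟶ W)
    [∀ i, IsOpenImmersion (l i)] (g : ∀ i, U i ⟶ V i) (hg : ∀ i, IsClosedImmersion (g i))
    (hsq : ∀ i, l i ≫ f = g i ≫ j i)
    (hpre : ∀ i (w : W), f w ∈ Set.range (j i) → w ∈ Set.range (l i)) :
    IsClosedImmersion f := by
  let 𝒰 : Y.OpenCover := Scheme.Cover.mkOfCovers ι V j hcov
  refine IsZariskiLocalAtTarget.of_openCover (P := @IsClosedImmersion) 𝒰 fun i => ?_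
  change IsClosedImmersion (pullback.snd f (j i))
  have h := IsOpenImmersion.isPullback (g i) (l i) (j i) f (hsq i) (by
    apply TopologicalSpace.Opens.ext
    refine Set.Subset.antisymm (fun w hw => hpre i w hw) ?_
    rintro _ ⟨z, rfl⟩
    exact ⟨g i z, by rw [← Scheme.Hom.comp_apply, ← hsq i, Scheme.Hom.comp_apply]⟩)
  rw [← h.flip.isoPullback_inv_snd]
  haveI := hg i
  infer_instance

variable {R : Type u} [CommRing R] {M : Type u} [AddCommGroup M] [Module R M] {k : ℕ}
variable {X : Over (Spec (CommRingCat.of R))} (hX : Rep R M k X)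
variable {A B : Type u} [CommRing A] [Algebra R A] [CommRing B] [Algebra R B]

section Desc

variable {Y : Scheme.{u}}
  (Φ : ∀ (A : Type u) [CommRing A] [Algebra R A], Pt R M k A → (Spec (CommRingCat.of A) ⟶ Y))
  (hΦ : ∀ (A B : Type u) [CommRing A] [Algebra R A] [CommRing B] [Algebra R B] (φ : A →ₐ[R] B)
    (N : Pt R M k A), sp φ ≫ Φ A N = Φ B (gmap φ N))

/-- A natural family of morphisms glues to a morphism on the glued Grassmannian. -/
noncomputable def grDesc : Gr R M k ⟶ Y :=
  colimit.desc (diag R M k)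
    ⟨_, { app := fun S => Φ _ (ChartSet.pt R (OrderDual.ofDual S))
          naturality := fun T S h => by
            simp only [Functor.const_obj_obj, Functor.const_obj_map, Category.comp_id]
            show sp _ ≫ _ = _
            rw [hΦ, ChartSet.gmap_res] }⟩

include hΦ in
lemma classify_grDesc (N : Pt R M k A) : classify N ≫ grDesc Φ hΦ = Φ A N := by
  obtain ⟨ι, _, f, x, hf, hx⟩ := exists_chart_cover N
  refine hom_ext_span (R := R) f hf _ _ fun i => ?_
  rw [← Category.assoc, classify_spec N _ _ _ (hx i), chartMor, Category.assoc, hΦ]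
  have h : inc (single (x i)) ≫ grDesc Φ hΦ = Φ _ (ChartSet.pt R (single (x i))) :=
    colimit.ι_desc _ _
  rw [h, hΦ, ChartSet.gmap_desc]

/-- A natural family of morphisms gives a morphism out of any representing scheme. -/
noncomputable def Rep.desc : X.left ⟶ Y :=
  haveI := hX.isIso_comparison
  inv hX.comparison ≫ grDesc Φ hΦ

lemma Rep.mor_desc (N : Pt R M k A) : hX.mor N ≫ hX.desc Φ hΦ = Φ A N := by
  haveI := hX.isIso_comparison
  rw [Rep.desc, ← hX.classify_comparison, Category.assoc, IsIso.hom_inv_id_assoc,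
    classify_grDesc]

include hX in
lemma Rep.hom_ext {g g' : X.left ⟶ Y}
    (h : ∀ x : Fin k → M, hX.mor (upt (R := R) x) ≫ g = hX.mor (upt x) ≫ g') : g = g' := by
  let 𝒰 : X.left.OpenCover := Scheme.Cover.mkOfCovers (Fin k → M)
    (fun x => Spec (CommRingCat.of (ChartSet.CRing R (single x)))) hX.chartInc
    fun p => hX.chartInc_covers p
  refine 𝒰.hom_ext _ _ fun x => ?_
  show hX.chartInc x ≫ g = hX.chartInc x ≫ g'
  rw [← hX.mor_upt]
  exact h x

end Desc

/-- A universal point in a chart has generating coordinates. -/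
lemma adjoin_eq_top_of_universal {C : Type u} [CommRing C] [Algebra R C] (x : Fin k → M)
    (N : Pt R M k C) (h : InChart x N)
    (desc : ∀ (S : Subalgebra R C) (P : Pt R M k S), InChart x P →
      ∃ χ : C →ₐ[R] S, gmap χ N = P)
    (ext : ∀ φ ψ : C →ₐ[R] C, gmap φ N = gmap ψ N → φ = ψ) :
    Algebra.adjoin R (Set.range fun p : M × Fin k => h.ell p.1 p.2) = ⊤ := by
  set S := Algebra.adjoin R (Set.range fun p : M × Fin k => h.ell p.1 p.2)
  have hmem : ∀ m i, h.ell m i ∈ S := fun m i => Algebra.subset_adjoin ⟨(m, i), rfl⟩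
  let ℓ : M →ₗ[R] (Fin k → S) :=
    { toFun := fun m i => ⟨h.ell m i, hmem m i⟩
      map_add' := fun m m' => funext fun i => Subtype.ext (by simp)
      map_smul' := fun r m => funext fun i => Subtype.ext (by simp) }
  have hℓ : ∀ j, ℓ (x j) = Pi.single j 1 := by
    intro j
    funext i
    apply Subtype.ext
    show h.ell (x j) i = _
    rw [h.ell_apply_x]
    by_cases hij : i = j <;> simp [hij]
  have hN : gmap S.val (ofEll x ℓ hℓ) = N := by
    refine ((inChart_ofEll x ℓ hℓ).gmap S.val).ext h (LinearMap.ext fun m => funext fun i => ?_)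
    rw [(inChart_ofEll x ℓ hℓ).ell_gmap]
    dsimp only
    rw [ell_ofEll]
    rfl
  obtain ⟨χ, hχ⟩ := desc S _ (inChart_ofEll x ℓ hℓ)
  have hid : S.val.comp χ = AlgHom.id R C := ext _ _ (by rw [gmap_comp, hχ, hN, gmap_id])
  rw [eq_top_iff]
  intro a _
  rw [show a = S.val (χ a) from (AlgHom.congr_fun hid a).symm]
  exact (χ a).2

/-- The chart rings are generated by the coordinates. -/
lemma adjoin_coords_eq_top (x : Fin k → M) :
    Algebra.adjoin R (Set.range fun p : M × Fin k => (inChart_upt (R := R) x).ell p.1 p.2) = ⊤ :=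
  adjoin_eq_top_of_universal x _ (inChart_upt x)
    (fun _ _ hP => ⟨ChartSet.desc (single_inChart hP), ChartSet.gmap_desc _⟩)
    fun _ _ h => ChartSet.hom_ext h

lemma surjective_of_coords (x : Fin k → M) (ψ : A →ₐ[R] ChartSet.CRing R (single x))
    (h : ∀ m i, (inChart_upt (R := R) x).ell m i ∈ ψ.range) : Function.Surjective ψ := by
  rw [← AlgHom.range_eq_top, eq_top_iff, ← adjoin_coords_eq_top x, Algebra.adjoin_le_iff]
  rintro _ ⟨⟨m, i⟩, rfl⟩
  exact h m i

end Groth.Agent.GrassLib
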