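import Groth.Agent.Lib.Grass.QuotBC
import Groth.Agent.Lib.TensorMod.Invertible

/-!
# The last step of a flag scheme is a Grassmannian
-/

set_option autoImplicit false
set_option backward.isDefEq.respectTransparency false
universe u

open CategoryTheory CategoryTheory.Limits AlgebraicGeometry

namespace Groth.Agent.GrassLib

/-- A quotient: a module with a map to it. -/
abbrev QuotOf {T : Scheme.{u}} (E' : T.Modules) := Σ L : T.Modules, (E' ⟶ L)

lemma quotOf_congr {T : Scheme.{u}} {E' : T.Modules} {a b : QuotOf E'} (h : a = b) :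
    a.2 ≫ eqToHom (congrArg Sigma.fst h) = b.2 := by
  subst h; simp

lemma epi_quotBC {X F T : Scheme.{u}} {π : F ⟶ X} {E : X.Modules} {Q : F.Modules}
    {q : (Scheme.Modules.pullback π).obj E ⟶ Q} [Epi q] {h : T ⟶ F} {g : T ⟶ X}
    (hg : h ≫ π = g) : Epi (Grass.quotBC hg q) :=
  haveI := Grass.epi_pullback_map h q
  inferInstanceAs (Epi ((Scheme.Modules.pullbackCongr hg).inv.app E ≫
    (Scheme.Modules.pullbackComp h π).inv.app E ≫ (Scheme.Modules.pullback h).map q))

theorem isGrass_last (X F F' : Scheme.{u}) (π : F ⟶ X) (π' : F' ⟶ X) (E : X.Modules)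
    (m : ℕ) (n : Fin (m + 2) → ℕ)
    (Q : Fin (m + 1) → F.Modules) (q : ∀ i, (Scheme.Modules.pullback π).obj E ⟶ Q i)
    (hF : Grass.IsFlag π E (fun i => n (Fin.castSucc i)) Q q)
    (Q' : Fin (m + 2) → F'.Modules) (q' : ∀ i, (Scheme.Modules.pullback π').obj E ⟶ Q' i)
    (hF' : Grass.IsFlag π' E n Q' q')
    (c : F' ⟶ F) (hc : c ≫ π = π')
    (iso : ∀ i, (Scheme.Modules.pullback c).obj (Q i) ≅ Q' (Fin.castSucc i))
    (hiso : ∀ i, Grass.quotBC hc (q i) ≫ (iso i).hom = q' (Fin.castSucc i))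
    (t : Q' (Fin.castSucc (Fin.last m)) ⟶ Q' (Fin.last (m + 1)))
    (ht : q' (Fin.castSucc (Fin.last m)) ≫ t = q' (Fin.last (m + 1))) :
    Grass.IsGrass c (Q (Fin.last m)) (n (Fin.last (m + 1))) (Q' (Fin.last (m + 1)))
      ((iso (Fin.last m)).hom ≫ t) := by
  refine ⟨hF'.rank _, ?_, ?_⟩
  · haveI : Epi (q' (Fin.castSucc (Fin.last m)) ≫ t) := by rw [ht]; exact hF'.epi _
    haveI : Epi t := epi_of_epi (q' (Fin.castSucc (Fin.last m))) t
    exact epi_comp _ _
  intro T g L hL s hs
  let fam : Fin (m + 2) → QuotOf ((Scheme.Modules.pullback (g ≫ π)).obj E) :=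
    Fin.lastCases ⟨L, Grass.quotBC rfl (q (Fin.last m)) ≫ s⟩
      (fun i => ⟨(Scheme.Modules.pullback g).obj (Q i), Grass.quotBC rfl (q i)⟩)
  have fcs : ∀ i, fam (Fin.castSucc i) =
      ⟨(Scheme.Modules.pullback g).obj (Q i), Grass.quotBC rfl (q i)⟩ := fun i =>
    Fin.lastCases_castSucc ..
  have flast : fam (Fin.last (m + 1)) = ⟨L, Grass.quotBC rfl (q (Fin.last m)) ≫ s⟩ :=
    Fin.lastCases_last ..
  have frank : ∀ j, FlatMod.IsFinLocFreeOfRank (n j) (fam j).1 := fun j =>
    Fin.lastCases (by rw [flast]; exact hL)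
      (fun i => by rw [fcs]; exact M2.isFinLocFreeOfRank_pullback g (hF.rank i)) j
  have fepi : ∀ j, Epi (fam j).2 := fun j =>
    Fin.lastCases (by
      rw [flast]
      haveI := hF.epi (Fin.last m)
      haveI := epi_quotBC (q := q (Fin.last m)) (h := g) rfl
      exact epi_comp _ _)
      (fun i => by rw [fcs]; haveI := hF.epi i; exact epi_quotBC rfl) j
  have fnested : ∀ i j, i ≤ j → ∃ u : (fam i).1 ⟶ (fam j).1, (fam i).2 ≫ u = (fam j).2 := by
    intro i
    induction i using Fin.lastCases with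
    | last =>
      intro j hj
      rw [le_antisymm (Fin.le_last j) hj]
      exact ⟨𝟙 _, Category.comp_id _⟩
    | cast i =>
      intro j
      induction j using Fin.lastCases with
      | last =>
        intro _
        rw [fcs, flast]
        obtain ⟨w, hw⟩ := hF.nested i (Fin.last m) (Fin.le_last _)
        refine ⟨(Scheme.Modules.pullback g).map w ≫ s, ?_⟩
        rw [← Category.assoc, ← quotBC_comp_map, hw]
      | cast j =>
        intro hij
        rw [fcs, fcs]
        obtain ⟨w, hw⟩ := hF.nested i j (Fin.castSucc_le_castSucc_iff.mp hij)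
        exact ⟨(Scheme.Modules.pullback g).map w, by rw [← quotBC_comp_map, hw]⟩
  haveI hepim : Epi (Grass.quotBC (π := π) (h := g) rfl (q (Fin.last m))) :=
    haveI := hF.epi (Fin.last m); epi_quotBC rfl
  -- the two descriptions of a lift agree
  have key : ∀ (h : T ⟶ F') (hgc : h ≫ c = g) (hh : h ≫ π' = g ≫ π),
      ∃ f : ∀ i, (Scheme.Modules.pullback h).obj ((Scheme.Modules.pullback c).obj (Q i)) ≅
          (Scheme.Modules.pullback g).obj (Q i),
        (∀ i, Grass.quotBC hh (Grass.quotBC hc (q i)) ≫ (f i).hom = Grass.quotBC rfl (q i)) ∧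
        ∀ {Z : F'.Modules} (x : (Scheme.Modules.pullback c).obj (Q (Fin.last m)) ⟶ Z),
          Grass.quotBC (π := π) (h := g) rfl (q (Fin.last m)) ≫ Grass.quotBC hgc x =
            Grass.quotBC hh (Grass.quotBC hc (q (Fin.last m)) ≫ x) := by
    intro h hgc hh
    subst hgc
    refine ⟨fun i => (Scheme.Modules.pullbackComp h c).app (Q i), fun i =>
      (quotBC_comp (q i) hc hh rfl).symm, fun {Z} x => ?_⟩
    refine Eq.trans (congrArg (· ≫ Grass.quotBC rfl x) (quotBC_comp (q (Fin.last m)) hc hh rfl)) ?_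
    refine Eq.trans (Category.assoc _ _ _) ?_
    refine Eq.trans (congrArg (Grass.quotBC hh (Grass.quotBC hc (q (Fin.last m))) ≫ ·) ?_)
      (quotBC_comp_map hh (Grass.quotBC hc (q (Fin.last m))) x).symm
    simp only [Grass.quotBC, pullbackCongr_inv_app, eqToHom_refl, Category.id_comp,
      Iso.hom_inv_id_app_assoc]
  obtain ⟨h, ⟨hh, e, he⟩, huniq⟩ := hF'.univ T (g ≫ π) (fun j => (fam j).1) frank
    (fun j => (fam j).2) fepi fnested
  -- the lift lies over `g`
  have hgc : h ≫ c = g := by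
    have hhc : (h ≫ c) ≫ π = g ≫ π := by rw [Category.assoc, hc, hh]
    let e' : ∀ i, (Scheme.Modules.pullback (h ≫ c)).obj (Q i) ≅
        (Scheme.Modules.pullback g).obj (Q i) := fun i =>
      ((Scheme.Modules.pullbackComp h c).app (Q i)).symm ≪≫
        (Scheme.Modules.pullback h).mapIso (iso i) ≪≫ e (Fin.castSucc i) ≪≫
          eqToIso (congrArg Sigma.fst (fcs i))
    refine (hF.univ T (g ≫ π) (fun i => (Scheme.Modules.pullback g).obj (Q i))
      (fun i => M2.isFinLocFreeOfRank_pullback g (hF.rank i))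
      (fun i => Grass.quotBC rfl (q i)) (fun i => haveI := hF.epi i; epi_quotBC rfl)
      (fun i j hij => ?_)).unique ⟨hhc, e', fun i => ?_⟩
      ⟨rfl, fun i => Iso.refl _, fun i => Category.comp_id _⟩
    · obtain ⟨w, hw⟩ := hF.nested i j hij
      exact ⟨(Scheme.Modules.pullback g).map w, by rw [← quotBC_comp_map, hw]⟩
    · simp only [e', Iso.trans_hom, Iso.symm_hom, Iso.app_inv, Functor.mapIso_hom, eqToIso.hom]
      rw [quotBC_comp (q i) hc hh hhc, Category.assoc, ← Category.assoc
        ((Scheme.Modules.pullbackComp h c).hom.app _), Iso.hom_inv_id_app, Category.id_comp,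
        ← Category.assoc, ← quotBC_comp_map, hiso, ← Category.assoc, he, quotOf_congr (fcs i)]
  refine ⟨h, ⟨hgc, e (Fin.last (m + 1)) ≪≫ eqToIso (congrArg Sigma.fst flast), ?_⟩, ?_⟩
  · obtain ⟨f, -, hx⟩ := key h hgc hh
    rw [← cancel_epi (Grass.quotBC (π := π) (h := g) rfl (q (Fin.last m))), Iso.trans_hom,
      eqToIso.hom, ← Category.assoc, hx, ← Category.assoc (Grass.quotBC hc _), hiso, ht,
      ← Category.assoc, he,
      quotOf_congr flast]
  · rintro h' ⟨hgc', e1, he1⟩
    have hh' : h' ≫ π' = g ≫ π := by rw [← hgc', Category.assoc, hc]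
    obtain ⟨f, hf, hx⟩ := key h' hgc' hh'
    refine huniq h' ⟨hh', fun j => Fin.lastCases
      (motive := fun j => (Scheme.Modules.pullback h').obj (Q' j) ≅ (fam j).1)
      (e1 ≪≫ eqToIso (congrArg Sigma.fst flast).symm)
      (fun i => (Scheme.Modules.pullback h').mapIso (iso i).symm ≪≫ f i ≪≫
        eqToIso (congrArg Sigma.fst (fcs i)).symm) j, fun j => ?_⟩
    induction j using Fin.lastCases with
    | last =>
      dsimp only
      rw [Fin.lastCases_last, Iso.trans_hom, eqToIso.hom]
      refine Eq.trans ?_ (quotOf_congr flast.symm)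
      refine Eq.trans (Category.assoc _ _ _).symm ?_
      refine congrArg (· ≫ eqToHom (congrArg Sigma.fst flast.symm)) ?_
      show Grass.quotBC hh' (q' (Fin.last (m + 1))) ≫ e1.hom =
        Grass.quotBC rfl (q (Fin.last m)) ≫ s
      rw [← he1, ← ht, ← hiso, Category.assoc (Grass.quotBC hc _)]
      exact (congrArg (· ≫ e1.hom) (hx ((iso (Fin.last m)).hom ≫ t))).symm.trans
        (Category.assoc _ _ _)
    | cast i =>
      dsimp only
      rw [Fin.lastCases_castSucc, Iso.trans_hom, Iso.trans_hom, eqToIso.hom]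
      refine Eq.trans ?_ (quotOf_congr (fcs i).symm)
      dsimp only
      refine Eq.trans ?_
        (congrArg (· ≫ eqToHom (congrArg Sigma.fst (fcs i).symm)) (hf i))
      rw [← hiso i]
      refine Eq.trans (congrArg (· ≫ _) (quotBC_comp_map hh' _ _)) ?_
      rw [Functor.mapIso_hom, Iso.symm_hom]
      simp only [Category.assoc, Iso.map_hom_inv_id_assoc]

end Groth.Agent.GrassLib
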