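import Groth.Agent.Lib.Grass.Point
import Groth.Agent.Lib.ProjSpace.Basic

/-!
# The charts of the Grassmannian of a free module
-/

set_option autoImplicit false
set_option backward.isDefEq.respectTransparency false
universe u

open TensorProduct Module CategoryTheory Limits AlgebraicGeometry

namespace Groth.Agent.GrassLib

attribute [local irreducible] ChartSet.pt

variable {R : Type u} [CommRing R] {M : Type u} [AddCommGroup M] [Module R M] {n k : ℕ}
variable (b : Basis (Fin n) R M) (σ : Fin k ↪ Fin n)

lemma InChart.ext_basis {A : Type u} [CommRing A] [Algebra R A] {x : Fin k → M}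
    {N N' : Pt R M k A} (h : InChart x N) (h' : InChart x N') (b : Basis (Fin n) R M)
    (he : ∀ c i, h.ell (b c) i = h'.ell (b c) i) : N = N' :=
  h.ext h' (b.ext fun c => funext fun i => he c i)

/-- The variables of the standard chart. -/
abbrev FreeVar : Type := Fin k × {c : Fin n // c ∉ Set.range σ}

/-- The coordinates of the generic point of a standard chart. -/
noncomputable def freeEll : M →ₗ[R] (Fin k → MvPolynomial (FreeVar σ) R) :=
  b.constr R fun c =>
    open Classical in
    if h : c ∈ Set.range σ then Pi.single h.choose 1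
    else fun i => MvPolynomial.X (i, ⟨c, h⟩)

lemma freeEll_apply_range (j : Fin k) : freeEll b σ (b (σ j)) = Pi.single j 1 := by
  rw [freeEll, Basis.constr_basis, dif_pos ⟨j, rfl⟩]
  exact congrArg (fun t => Pi.single t 1) (σ.injective (⟨j, rfl⟩ : σ j ∈ Set.range σ).choose_spec)

lemma freeEll_apply_compl (c : {c : Fin n // c ∉ Set.range σ}) (i : Fin k) :
    freeEll b σ (b c) i = MvPolynomial.X (i, c) := by
  rw [freeEll, Basis.constr_basis, dif_neg c.2]

/-- The generic point of the standard chart. -/
noncomputable def freePt : Pt R M k (MvPolynomial (FreeVar σ) R) :=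
  ofEll (b ∘ σ) (freeEll b σ) (freeEll_apply_range b σ)

lemma inChart_freePt : InChart (b ∘ σ) (freePt b σ) := inChart_ofEll _ _ _

lemma ell_freePt : (inChart_freePt b σ).ell = freeEll b σ := ell_ofEll _

/-- Coordinates on the standard chart. -/
noncomputable def toFreeChart :
    MvPolynomial (FreeVar σ) R →ₐ[R] ChartSet.CRing R (single (b ∘ σ)) :=
  MvPolynomial.aeval fun v => (inChart_upt (R := R) (b ∘ σ)).ell (b v.2) v.1

/-- The classifying map of the generic point. -/
noncomputable def ofFreeChart :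
    ChartSet.CRing R (single (b ∘ σ)) →ₐ[R] MvPolynomial (FreeVar σ) R :=
  ChartSet.desc (single_inChart (inChart_freePt b σ))

lemma gmap_ofFreeChart : gmap (ofFreeChart b σ) (upt (b ∘ σ)) = freePt b σ :=
  ChartSet.gmap_desc _

lemma toFreeChart_X (i : Fin k) (c : {c : Fin n // c ∉ Set.range σ}) :
    toFreeChart b σ (MvPolynomial.X (i, c)) = (inChart_upt (R := R) (b ∘ σ)).ell (b c) i :=
  MvPolynomial.aeval_X _ _

lemma gmap_toFreeChart : gmap (toFreeChart b σ) (freePt b σ) = upt (b ∘ σ) := by
  refine ((inChart_freePt b σ).gmap (toFreeChart b σ)).ext_basis (inChart_upt _) b fun c i => ?_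
  rw [(inChart_freePt b σ).ell_gmap]
  dsimp only
  rw [ell_freePt]
  by_cases hc : c ∈ Set.range σ
  · obtain ⟨j, rfl⟩ := hc
    have hx := (inChart_upt (R := R) (b ∘ σ)).ell_apply_x j
    rw [Function.comp_apply] at hx
    rw [freeEll_apply_range, hx]
    by_cases h : i = j <;> simp [h]
  · rw [show c = (⟨c, hc⟩ : {c : Fin n // c ∉ Set.range σ}).1 from rfl, freeEll_apply_compl,
      toFreeChart_X]

lemma toFreeChart_comp_ofFreeChart :
    (toFreeChart b σ).comp (ofFreeChart b σ) = AlgHom.id R _ :=
  ChartSet.hom_ext (by rw [gmap_comp, gmap_ofFreeChart, gmap_toFreeChart, gmap_id])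

lemma ofFreeChart_comp_toFreeChart :
    (ofFreeChart b σ).comp (toFreeChart b σ) = AlgHom.id R _ := by
  refine MvPolynomial.algHom_ext fun ⟨i, c⟩ => ?_
  rw [AlgHom.comp_apply, toFreeChart_X, AlgHom.id_apply]
  have h := InChart.ell_eq ((inChart_upt (R := R) (b ∘ σ)).gmap (ofFreeChart b σ))
    (freeEll b σ) (freeEll_apply_range b σ)
    (by rw [gmap_ofFreeChart]; exact le_rfl)
  have h' := congr_fun (LinearMap.congr_fun h (b c)) i
  rw [(inChart_upt (R := R) (b ∘ σ)).ell_gmap, freeEll_apply_compl] at h'
  exact h'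

/-- The standard chart is the polynomial ring on the free entries. -/
noncomputable def freeChartEquiv :
    MvPolynomial (FreeVar σ) R ≃ₐ[R] ChartSet.CRing R (single (b ∘ σ)) :=
  AlgEquiv.ofAlgHom (toFreeChart b σ) (ofFreeChart b σ) (toFreeChart_comp_ofFreeChart b σ)
    (ofFreeChart_comp_toFreeChart b σ)

/-- Over a field every point is in a standard chart. -/
lemma exists_inChart_free {K : Type u} [Field K] [Algebra R K] {x : Fin k → M} {N : Pt R M k K}
    (h : InChart x N) : ∃ σ : Fin k ↪ Fin n, InChart (b ∘ σ) N := by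
  classical
  let w : Fin n → (Fin k → K) := fun c => h.ell (b c)
  have hspan : Submodule.span K (Set.range w) = ⊤ := by
    rw [eq_top_iff, ← (Pi.basisFun K (Fin k)).span_eq, Submodule.span_le]
    rintro _ ⟨i, rfl⟩
    rw [Pi.basisFun_apply, ← h.ell_apply_x i, ← b.sum_repr (x i), map_sum]
    refine Submodule.sum_mem _ fun c _ => ?_
    rw [LinearMap.map_smul, ← algebraMap_smul K]
    exact Submodule.smul_mem _ _ (Submodule.subset_span ⟨c, rfl⟩)
  obtain ⟨s, hs, hsspan, hsli⟩ := exists_linearIndependent K (Set.range w)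
  let B0 := Basis.mk hsli (by rw [Subtype.range_coe, hsspan, hspan])
  haveI : Finite s := Module.Finite.finite_basis B0
  haveI : Fintype s := Fintype.ofFinite s
  have hcard : Fintype.card s = k := by
    rw [← Module.finrank_eq_card_basis B0, Module.finrank_fin_fun]
  let τ : Fin k ≃ s := (Fintype.equivFinOfCardEq hcard).symm
  choose c hc using fun i : Fin k => hs (τ i).2
  have hinj : Function.Injective c := fun i j hij => τ.injective (Subtype.ext (by
    rw [← hc i, ← hc j, hij]))
  refine ⟨⟨c, hinj⟩, (h.inChart_iff_isUnit_det _).mpr ?_⟩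
  have hm : (Matrix.of fun i j => h.ell ((b ∘ c) j) i) =
      (Pi.basisFun K (Fin k)).toMatrix (B0.reindex τ.symm) := by
    ext i j
    simp [Basis.toMatrix_apply, B0, ← hc j, w]
  show IsUnit ((Matrix.of fun i j => h.ell ((b ∘ c) j) i).det)
  rw [hm]
  exact (Matrix.isUnit_iff_isUnit_det _).mp
    (@isUnit_of_invertible _ _ _ ((Pi.basisFun K (Fin k)).invertibleToMatrix (B0.reindex τ.symm)))

variable {X : Over (Spec (CommRingCat.of R))} (hX : Rep R M k X)

lemma Rep.free_covers (p : X.left) :
    ∃ σ : Fin k ↪ Fin n, p ∈ Set.range (hX.chartInc (b ∘ σ)) := by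
  obtain ⟨x, q, rfl⟩ := hX.chartInc_covers p
  obtain ⟨σ, hσ⟩ := exists_inChart_free b ((inChart_upt (R := R) x).gmap (resHom q))
  refine ⟨σ, ?_⟩
  rw [← hX.mor_upt x]
  exact (hX.mem_range_chartInc _ _ _).mpr hσ

lemma card_freeVar : Nat.card (FreeVar σ) = k * (n - k) := by
  classical
  rw [Nat.card_prod, Nat.card_eq_fintype_card, Nat.card_eq_fintype_card, Fintype.card_fin,
    Fintype.card_subtype_compl, Fintype.card_fin]
  congr
  exact (Set.card_range_of_injective σ.injective).trans (Fintype.card_fin k)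

lemma Rep.chartInc_free_hom :
    Spec.map (CommRingCat.ofHom (freeChartEquiv b σ).symm.toAlgHom.toRingHom) ≫
      hX.chartInc (b ∘ σ) ≫ X.hom =
    Spec.map (CommRingCat.ofHom MvPolynomial.C) := by
  rw [hX.chartInc_hom]
  exact sp_str (freeChartEquiv b σ).symm.toAlgHom

end Groth.Agent.GrassLib
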