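import Groth.Agent.Lib.Grass.Desc
import Groth.Agent.Lib.Grass.Free
import Groth.Agent.Lib.Grass.ProjPts
import Groth.Agent.Lib.ProjSpace.BaseChange

/-!
# The Plücker embedding
-/

set_option autoImplicit false
set_option backward.isDefEq.respectTransparency false
universe u

open TensorProduct Module CategoryTheory Limits AlgebraicGeometry

namespace Groth.Agent.GrassLib

attribute [local irreducible] ChartSet.pt

variable {R : Type u} [CommRing R] {M : Type u} [AddCommGroup M] [Module R M] {n k : ℕ}
variable {A B : Type u} [CommRing A] [Algebra R A] [CommRing B] [Algebra R B]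

lemma InChart.det_self {x : Fin k → M} {N : Pt R M k A} (h : InChart x N) : h.det x = 1 := by
  rw [InChart.det, show (Matrix.of fun i j => h.ell (x j) i) = (1 : Matrix (Fin k) (Fin k) A) from by
    ext i j; simp [h.ell_apply_x, Matrix.one_apply, Pi.single_apply]]
  exact Matrix.det_one

lemma InChart.det_mul {x y : Fin k → M} {N : Pt R M k A} (h : InChart x N) (h' : InChart y N)
    (z : Fin k → M) : h.det z = h.det y * h'.det z := by
  rw [InChart.det, InChart.det, InChart.det, ← Matrix.det_mul]
  congr 1
  ext i j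
  have h1 := (h.mem_iff _).mp (h'.sub_mem (z j))
  rw [map_sub, lc_apply, map_sum, sub_eq_zero] at h1
  have h2 := congr_fun h1 i
  simp only [LinearMap.liftBaseChange_tmul, one_smul, Finset.sum_apply, Pi.smul_apply,
    smul_eq_mul] at h2
  rw [one_mul] at h2
  simp [Matrix.mul_apply, h2, mul_comm]

lemma InChart.det_perm {x : Fin k → M} {N : Pt R M k A} (h : InChart x N) (z : Fin k → M)
    (π : Equiv.Perm (Fin k)) : h.det (z ∘ π) = (Equiv.Perm.sign π : ℤ) * h.det z := by
  rw [InChart.det, InChart.det]
  exact Matrix.det_permute' π (Matrix.of fun i j => h.ell (z j) i)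

lemma InChart.of_perm {z : Fin k → M} {N : Pt R M k A} (π : Equiv.Perm (Fin k))
    (h : InChart (z ∘ π) N) : InChart z N := by
  rw [h.inChart_iff_isUnit_det]
  have h1 := h.det_self
  rw [h.det_perm] at h1
  exact IsUnit.of_mul_eq_one_right _ h1

lemma InChart.det_update {x : Fin k → M} {N : Pt R M k A} (h : InChart x N) (i : Fin k) (m : M) :
    h.det (Function.update x i m) = h.ell m i := by
  classical
  rw [InChart.det]
  have e : (Matrix.of fun a c => h.ell (Function.update x i m c) a) =
      (1 : Matrix (Fin k) (Fin k) A).updateCol i (h.ell m) := by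
    ext a c
    by_cases hc : c = i
    · subst hc; simp
    · simp [hc, h.ell_apply_x, Matrix.one_apply, Pi.single_apply]
  rw [e, ← Matrix.cramer_apply, Matrix.cramer_one, Module.End.one_apply]

lemma range_comp_det (ψ : A →ₐ[R] B) (b : Basis (Fin n) R M) {x : Fin k → M} {N : Pt R M k B}
    (h : InChart x N) {σ : Fin k → Fin n} (hx : x = b ∘ σ)
    (hdet : ∀ f : Fin k → Fin n, h.det (b ∘ f) ∈ ψ.range) (m : M) (i : Fin k) :
    h.ell m i ∈ ψ.range := by
  classical
  rw [← b.sum_repr m, map_sum, Finset.sum_apply]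
  refine Subalgebra.sum_mem _ fun c _ => ?_
  rw [LinearMap.map_smul, Pi.smul_apply]
  refine Subalgebra.smul_mem _ ?_ _
  have e : b ∘ Function.update σ i c = Function.update x i (b c) := by
    rw [hx, Function.comp_update]
  rw [← h.det_update i (b c), ← e]
  exact hdet _

section

variable (b : Basis (Fin n) R M) {d : ℕ} (idx : Fin (d + 1) ≃ {S : Finset (Fin n) // S.card = k})

/-- The increasing enumeration of the `j`-th subset. -/
noncomputable def sel (j : Fin (d + 1)) : Fin k → Fin n :=
  (idx j).1.orderEmbOfFin (idx j).2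

/-- The `j`-th standard chart. -/
noncomputable abbrev pc (j : Fin (d + 1)) : Fin k → M := b ∘ sel idx j

lemma exists_perm (f : Fin k → Fin n) (hf : Function.Injective f) :
    ∃ (j : Fin (d + 1)) (π : Equiv.Perm (Fin k)), f = sel idx j ∘ π := by
  classical
  let S : {S : Finset (Fin n) // S.card = k} :=
    ⟨Finset.univ.image f, by rw [Finset.card_image_of_injective _ hf, Finset.card_fin]⟩
  refine ⟨idx.symm S, ?_⟩
  set g := sel idx (idx.symm S)
  have hg : Set.range g = Set.range f := by
    rw [show Set.range g = ((idx (idx.symm S)).1 : Set (Fin n)) from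
      Finset.range_orderEmbOfFin _ _, Equiv.apply_symm_apply]
    simp [S]
  have hm : ∀ i, ∃ l, g l = f i := fun i => hg.ge ⟨i, rfl⟩
  choose π hπ using hm
  have hπi : Function.Injective π := fun i i' h => hf (by rw [← hπ, ← hπ, h])
  exact ⟨Equiv.ofBijective π (Finite.injective_iff_bijective.mp hπi), funext fun i => (hπ i).symm⟩

lemma exists_inChart_pc {f : Fin k ↪ Fin n} {N : Pt R M k A} (h : InChart (b ∘ f) N) :
    ∃ j, InChart (pc b idx j) N := by
  obtain ⟨j, π, hπ⟩ := exists_perm idx f f.injective
  refine ⟨j, InChart.of_perm π ?_⟩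
  rwa [Function.comp_assoc, ← hπ]

variable {X : Over (Spec (CommRingCat.of R))} (hX : Rep R M k X)

lemma Rep.pc_covers (p : X.left) : ∃ j, p ∈ Set.range (hX.chartInc (pc b idx j)) := by
  obtain ⟨σ, q, rfl⟩ := hX.free_covers b p
  obtain ⟨j, hj⟩ := exists_inChart_pc b idx ((inChart_upt (R := R) (b ∘ σ)).gmap (resHom q))
  refine ⟨j, ?_⟩
  rw [← hX.mor_upt (b ∘ σ)]
  exact (hX.mem_range_chartInc _ _ _).mpr hj

/-- The Plücker map on a standard chart. -/
noncomputable def pluckerChart (j : Fin (d + 1)) :
    Spec (CommRingCat.of (ChartSet.CRing R (single (pc b idx j)))) ⟶ CohB1.ProjSpace d R :=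
  vecMor j fun r => (inChart_upt (R := R) (pc b idx j)).det (pc b idx r)

lemma sp_pluckerChart {j : Fin (d + 1)} (φ : ChartSet.CRing R (single (pc b idx j)) →ₐ[R] A) :
    sp φ ≫ pluckerChart b idx j =
      vecMor j fun r => ((inChart_upt (R := R) (pc b idx j)).gmap φ).det (pc b idx r) := by
  rw [pluckerChart, sp_vecMor]
  congr 1
  funext r
  rw [InChart.det_gmap]

lemma vecMor_pc_congr {i j : Fin (d + 1)} {N N' : Pt R M k A} (e : N = N')
    (h : InChart (pc b idx i) N) (h' : InChart (pc b idx j) N') :
    vecMor (R := R) i (fun r => h.det (pc b idx r)) = vecMor j (fun r => h'.det (pc b idx r)) := by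
  subst e
  exact vecMor_change h.det_self h'.det_self fun r => h.det_mul h' _

/-- The cover by standard charts. -/
noncomputable def Rep.pcCover : X.left.OpenCover :=
  Scheme.Cover.mkOfCovers (ULift.{u} (Fin (d + 1)))
    (fun j => Spec (CommRingCat.of (ChartSet.CRing R (single (pc b idx j.down)))))
    (fun j => hX.chartInc (pc b idx j.down))
    (fun p => let ⟨j, hj⟩ := hX.pc_covers b idx p; ⟨⟨j⟩, hj⟩)

lemma Rep.plucker_agree_aux {i j : Fin (d + 1)} {C : CommRingCat.{u}}
    (f : Spec C ⟶ Spec (CommRingCat.of (ChartSet.CRing R (single (pc b idx i)))))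
    (g : Spec C ⟶ Spec (CommRingCat.of (ChartSet.CRing R (single (pc b idx j)))))
    (h : f ≫ hX.chartInc (pc b idx i) = g ≫ hX.chartInc (pc b idx j)) :
    f ≫ pluckerChart b idx i = g ≫ pluckerChart b idx j := by
  obtain ⟨alg, halg⟩ := exists_algebra_str (R := R) ((f ≫ hX.chartInc (pc b idx i)) ≫ X.hom)
  let _ := alg
  obtain ⟨φ, rfl⟩ := exists_sp (R := R) (g := f) (by
    rw [← hX.chartInc_hom, ← Category.assoc]; exact halg.symm)
  obtain ⟨ψ, rfl⟩ := exists_sp (R := R) (g := g) (by
    rw [← hX.chartInc_hom, ← Category.assoc, ← h]; exact halg.symm)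
  rw [sp_pluckerChart, sp_pluckerChart]
  rw [hX.sp_chartInc, hX.sp_chartInc] at h
  exact vecMor_pc_congr b idx (hX.mor_injective h) _ _

/-- The Plücker morphism. -/
noncomputable def Rep.plucker : X.left ⟶ CohB1.ProjSpace d R :=
  (hX.pcCover b idx).glueMorphisms (fun j => pluckerChart b idx j.down) fun i j => by
    refine (pullback ((hX.pcCover b idx).f i) ((hX.pcCover b idx).f j)).affineCover.hom_ext _ _
      fun m => ?_
    rw [← Category.assoc, ← Category.assoc]
    refine hX.plucker_agree_aux b idx _ _ ?_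
    rw [Category.assoc, Category.assoc]
    exact congrArg (_ ≫ ·) pullback.condition

lemma Rep.chartInc_plucker (j : Fin (d + 1)) :
    hX.chartInc (pc b idx j) ≫ hX.plucker b idx = pluckerChart b idx j :=
  (hX.pcCover b idx).ι_glueMorphisms _ _ ⟨j⟩

lemma Rep.plucker_toSpec : hX.plucker b idx ≫ CohB1.ProjSpace.toSpec d R = X.hom := by
  refine (hX.pcCover b idx).hom_ext _ _ fun j => ?_
  show hX.chartInc (pc b idx j.down) ≫ _ = hX.chartInc (pc b idx j.down) ≫ _
  rw [← Category.assoc, hX.chartInc_plucker, pluckerChart, vecMor_toSpec, hX.chartInc_hom]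

lemma det_comp_mem_range (ψ : A →ₐ[R] B) {x : Fin k → M} {N : Pt R M k B} (h : InChart x N)
    (hψ : ∀ r, h.det (pc b idx r) ∈ ψ.range) (f : Fin k → Fin n) : h.det (b ∘ f) ∈ ψ.range := by
  classical
  by_cases hf : Function.Injective f
  · obtain ⟨r, π, rfl⟩ := exists_perm idx f hf
    rw [← Function.comp_assoc, h.det_perm]
    exact Subalgebra.mul_mem _ (intCast_mem _ _) (hψ r)
  · obtain ⟨p, q, hpq, hne⟩ : ∃ p q, f p = f q ∧ p ≠ q := by
      simpa [Function.Injective, not_forall] using hf
    rw [InChart.det, Matrix.det_zero_of_column_eq hne fun a => by simp [hpq]]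
    exact Subalgebra.zero_mem _

theorem Rep.isClosedImmersion_plucker : IsClosedImmersion (hX.plucker b idx) := by
  let F : ∀ j : Fin (d + 1), Fin (d + 1) → ChartSet.CRing R (single (pc b idx j)) :=
    fun j r => (inChart_upt (R := R) (pc b idx j)).det (pc b idx r)
  let ψ : ∀ j : Fin (d + 1), MvPolynomial {r : Fin (d + 1) // r ≠ j} R →ₐ[R]
      ChartSet.CRing R (single (pc b idx j)) := fun j => MvPolynomial.aeval fun r => F j r.1
  refine isClosedImmersion_of_charts _ (ι := ULift.{u} (Fin (d + 1)))
    (fun j => ProjSpace.chart d R j.down) (fun y => ?_) (fun j => hX.chartInc (pc b idx j.down))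
    (fun j => sp (ψ j.down)) (fun j => IsClosedImmersion.spec_of_surjective _ ?_)
    (fun j => hX.chartInc_plucker b idx j.down) fun j w hw => ?_
  · obtain ⟨i, hi⟩ := ProjSpace.exists_mem_chart d R y
    exact ⟨⟨i⟩, hi⟩
  · show Function.Surjective (ψ j.down)
    refine surjective_of_coords _ _ ?_
    refine range_comp_det (ψ j.down) b (inChart_upt _) rfl
      (det_comp_mem_range b idx _ _ fun r => ?_)
    by_cases hr : r = j.down
    · rw [hr, InChart.det_self]
      exact Subalgebra.one_mem _
    · exact ⟨MvPolynomial.X ⟨r, hr⟩, MvPolynomial.aeval_X _ _⟩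
  · obtain ⟨i, q, rfl⟩ := hX.pc_covers b idx w
    rw [← Scheme.Hom.comp_apply, hX.chartInc_plucker, pluckerChart] at hw
    have h1 := (vecMor_mem_range_chart i j.down (F i)
      (inChart_upt (R := R) (pc b idx i)).det_self q).mp hw
    rw [← hX.mor_upt (pc b idx i)]
    refine (hX.mem_range_chartInc _ _ _).mpr ?_
    rw [((inChart_upt (R := R) (pc b idx i)).gmap (resHom q)).inChart_iff_isUnit_det,
      InChart.det_gmap, isUnit_iff_ne_zero]
    intro h0
    apply h1
    rw [← Ideal.ker_algebraMap_residueField q.asIdeal]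
    exact h0

include hX b in
/-- The Plücker embedding into projective space over the base. -/
theorem Rep.exists_plucker (hk : k ≤ n) :
    ∃ c : X.left ⟶ CohB1.ProjSpaceOver (n.choose k - 1) (Spec (CommRingCat.of R)),
      IsClosedImmersion c ∧
        c ≫ CohB1.ProjSpaceOver.toBase (n.choose k - 1) (Spec (CommRingCat.of R)) = X.hom := by
  classical
  have hcard : Fintype.card {S : Finset (Fin n) // S.card = k} = n.choose k - 1 + 1 := by
    rw [Fintype.card_finset_len, Fintype.card_fin]
    have := Nat.choose_pos hk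
    omega
  let idx : Fin (n.choose k - 1 + 1) ≃ {S : Finset (Fin n) // S.card = k} :=
    (Fintype.equivFinOfCardEq hcard).symm
  haveI := hX.isClosedImmersion_plucker b idx
  exact ⟨hX.plucker b idx ≫ (ProjSpace.overSpecIso _ R).hom, inferInstance, by
    rw [Category.assoc, ProjSpace.overSpecIso_hom_toBase, hX.plucker_toSpec]⟩

end

end Groth.Agent.GrassLib
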