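import Groth.Agent.Lib.Grass.Transport

/-!
# Membership in a chart, checked at residue fields
-/

set_option autoImplicit false
set_option backward.isDefEq.respectTransparency false
universe u

open TensorProduct Module CategoryTheory Limits AlgebraicGeometry

namespace Groth.Agent.GrassLib

variable {R : Type u} [CommRing R] {M : Type u} [AddCommGroup M] [Module R M] {k : ℕ}
variable {X : Over (Spec (CommRingCat.of R))} (hX : Rep R M k X)
variable {A B : Type u} [CommRing A] [Algebra R A] [CommRing B] [Algebra R B]

/-- The universal point of the chart of `x`. -/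
noncomputable abbrev upt (x : Fin k → M) : Pt R M k (ChartSet.CRing R (single x)) :=
  ChartSet.pt R (single x)

lemma inChart_upt (x : Fin k → M) : InChart x (upt (R := R) x) :=
  (single x).inChart_pt (Finset.mem_singleton_self x)

lemma Rep.sp_chartInc (x : Fin k → M) (χ : ChartSet.CRing R (single x) →ₐ[R] A) :
    sp χ ≫ hX.chartInc x = hX.mor (gmap χ (upt x)) := by
  rw [Rep.chartInc, hX.inc_comparison, hX.sp_mor]

lemma Rep.mor_upt (x : Fin k → M) : hX.mor (upt (R := R) x) = hX.chartInc x := by
  rw [Rep.chartInc, hX.inc_comparison]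

lemma Rep.mor_eq_sp_chartInc {x : Fin k → M} {N : Pt R M k A} (h : InChart x N) :
    hX.mor N = sp (ChartSet.desc (single_inChart h)) ≫ hX.chartInc x := by
  rw [hX.sp_chartInc, ChartSet.gmap_desc]

/-- The residue field map at a prime. -/
noncomputable abbrev resHom (q : PrimeSpectrum A) : A →ₐ[R] q.asIdeal.ResidueField :=
  IsScalarTower.toAlgHom R A _

lemma comap_resHom (q : PrimeSpectrum A) (z : PrimeSpectrum q.asIdeal.ResidueField) :
    PrimeSpectrum.comap (resHom (R := R) q).toRingHom z = q := by
  apply PrimeSpectrum.ext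
  have hz : z.asIdeal = ⊥ := (Ideal.eq_bot_or_top z.asIdeal).resolve_right z.2.ne_top
  show Ideal.comap (algebraMap A q.asIdeal.ResidueField) z.asIdeal = q.asIdeal
  rw [hz, ← RingHom.ker_eq_comap_bot, Ideal.ker_algebraMap_residueField]

/-- The point of `X` at `q` lies in the chart of `y` iff the point over the residue field does. -/
lemma Rep.mem_range_chartInc (N : Pt R M k A) (q : PrimeSpectrum A) (y : Fin k → M) :
    hX.mor N q ∈ Set.range (hX.chartInc y) ↔ InChart y (gmap (resHom q) N) := by
  constructor
  · intro h
    have hr : Set.range (sp (resHom (R := R) q) ≫ hX.mor N) ⊆ Set.range (hX.chartInc y) := by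
      rintro _ ⟨z, rfl⟩
      rw [Scheme.Hom.comp_apply]
      have hz : (sp (resHom (R := R) q)) z = q := comap_resHom (R := R) q z
      rw [hz]
      exact h
    obtain ⟨χ, hχ⟩ := exists_sp (R := R)
      (g := IsOpenImmersion.lift (hX.chartInc y) (sp (resHom (R := R) q) ≫ hX.mor N) hr) (by
        rw [← hX.chartInc_hom, IsOpenImmersion.lift_fac_assoc, Category.assoc, hX.mor_str, sp_str])
    have h2 : hX.mor (gmap χ (upt y)) = hX.mor (gmap (resHom q) N) := by
      rw [← hX.sp_chartInc, hχ, IsOpenImmersion.lift_fac, hX.sp_mor]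
    rw [← hX.mor_injective h2]
    exact (inChart_upt y).gmap χ
  · intro h
    obtain ⟨z⟩ : Nonempty (PrimeSpectrum q.asIdeal.ResidueField) := inferInstance
    refine ⟨sp (ChartSet.desc (single_inChart h)) z, ?_⟩
    have h1 := congrArg (fun g => g z)
      ((hX.mor_eq_sp_chartInc h).symm.trans (hX.sp_mor (resHom q) N).symm)
    simp only [Scheme.Hom.comp_apply] at h1
    rw [h1]
    congr 1
    exact comap_resHom (R := R) q z

end Groth.Agent.GrassLib
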