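import Groth.Prelude.Def_GrassD

/-!
# Base change of quotients along composites
-/

set_option autoImplicit false
universe u

open CategoryTheory CategoryTheory.Limits AlgebraicGeometry

namespace Groth.Agent.GrassLib

variable {X F F' T : Scheme.{u}} {π : F ⟶ X} {E : X.Modules} {Q : F.Modules}

lemma pullbackCongr_inv_app {Y Z : Scheme.{u}} {f g : Y ⟶ Z} (hf : f = g) (M : Z.Modules) :
    (Scheme.Modules.pullbackCongr hf).inv.app M = eqToHom (by rw [hf]) := by
  subst hf; rfl

set_option backward.isDefEq.respectTransparency false in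
lemma quotBC_comp {π' : F' ⟶ X} {c : F' ⟶ F} {h : T ⟶ F'} {g : T ⟶ X}
    (q : (Scheme.Modules.pullback π).obj E ⟶ Q) (hc : c ≫ π = π') (hh : h ≫ π' = g)
    (hg : (h ≫ c) ≫ π = g) :
    Grass.quotBC hg q =
      Grass.quotBC hh (Grass.quotBC hc q) ≫ (Scheme.Modules.pullbackComp h c).hom.app Q := by
  subst hc hh
  have key := NatTrans.congr_app (Scheme.Modules.pseudofunctor_associativity h c π) E
  simp only [NatTrans.comp_app, Functor.whiskerRight_app, Functor.whiskerLeft_app,
    Functor.associator_hom_app, Category.id_comp, eqToHom_app] at key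
  have key' : (Scheme.Modules.pullbackComp h (c ≫ π)).inv.app E ≫
      (Scheme.Modules.pullback h).map ((Scheme.Modules.pullbackComp c π).inv.app E) ≫
        (Scheme.Modules.pullbackComp h c).hom.app ((Scheme.Modules.pullback π).obj E) =
      (Scheme.Modules.pullbackCongr hg).inv.app E ≫
        (Scheme.Modules.pullbackComp (h ≫ c) π).inv.app E := by
    refine (cancel_mono ((Scheme.Modules.pullbackComp (h ≫ c) π).hom.app E)).mp ?_
    refine (((Category.assoc _ _ _).trans (congrArg _ (Category.assoc _ _ _))).trans key).trans ?_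
    refine Eq.trans ?_ (Category.assoc _ _ _).symm
    rw [Iso.inv_hom_id_app, Category.comp_id, pullbackCongr_inv_app]
  have hnat := (Scheme.Modules.pullbackComp h c).hom.naturality q
  simp only [Grass.quotBC, Scheme.Modules.pullbackCongr, eqToIso_refl, Iso.refl_inv,
    NatTrans.id_app, Category.id_comp, Functor.map_comp, Category.assoc] at hnat ⊢
  rw [show (Scheme.Modules.pullback h).map ((Scheme.Modules.pullback c).map q) =
    (Scheme.Modules.pullback c ⋙ Scheme.Modules.pullback h).map q from rfl, hnat]
  have key'' := congrArg (· ≫ (Scheme.Modules.pullback (h ≫ c)).map q) key'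
  simp only [Category.assoc, Scheme.Modules.pullbackCongr] at key''
  exact key''.symm

lemma quotBC_comp_map {Q' : F.Modules} {g : T ⟶ X} {h : T ⟶ F} (hg : h ≫ π = g)
    (q : (Scheme.Modules.pullback π).obj E ⟶ Q) (t : Q ⟶ Q') :
    Grass.quotBC hg (q ≫ t) = Grass.quotBC hg q ≫ (Scheme.Modules.pullback h).map t := by
  simp only [Grass.quotBC, Functor.map_comp, Category.assoc]

end Groth.Agent.GrassLib
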