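import Groth.Agent.Lib.Grass.Basic

/-!
# The rings of the charts of the Grassmannian and of their intersections
-/

set_option autoImplicit false
universe u

open TensorProduct Module

namespace Groth.Agent.GrassLib

variable {R : Type u} [CommRing R] {M : Type u} [AddCommGroup M] [Module R M] {k : ℕ}
variable {A B : Type u} [CommRing A] [Algebra R A] [CommRing B] [Algebra R B]

/-- The relations of the chart ring of `x`. -/
def chartRel (x : Fin k → M) : Set (MvPolynomial (M × Fin k) R) :=
  {g | (∃ m m' i, g = MvPolynomial.X (m + m', i) - MvPolynomial.X (m, i) - MvPolynomial.X (m', i)) ∨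
    (∃ (r : R) (m : M) (i : Fin k),
      g = MvPolynomial.X (r • m, i) - MvPolynomial.C r * MvPolynomial.X (m, i)) ∨
    (∃ j i, g = MvPolynomial.X (x j, i) - MvPolynomial.C ((Pi.single j (1 : R) : Fin k → R) i))}

variable (R) in
/-- The coordinate ring of the chart of `x`. -/
abbrev ChartRing (x : Fin k → M) : Type u :=
  MvPolynomial (M × Fin k) R ⧸ Ideal.span (chartRel (R := R) x)

variable (R) in
/-- The universal coordinates. -/
noncomputable def chartEll (x : Fin k → M) : M →ₗ[R] (Fin k → ChartRing R x) where
  toFun m i := Ideal.Quotient.mk _ (MvPolynomial.X (m, i))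
  map_add' m m' := by
    funext i
    rw [Pi.add_apply, ← map_add, Ideal.Quotient.eq]
    refine Ideal.subset_span (Or.inl ⟨m, m', i, ?_⟩)
    ring
  map_smul' r m := by
    funext i
    rw [RingHom.id_apply, Pi.smul_apply, ← Ideal.Quotient.mkₐ_eq_mk R, ← map_smul,
      Ideal.Quotient.mkₐ_eq_mk, Ideal.Quotient.eq, MvPolynomial.smul_eq_C_mul]
    exact Ideal.subset_span (Or.inr (Or.inl ⟨r, m, i, rfl⟩))

lemma chartEll_x (x : Fin k → M) (j : Fin k) : chartEll R x (x j) = Pi.single j 1 := by
  funext i
  have h : (Pi.single j 1 : Fin k → ChartRing R x) i =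
      Ideal.Quotient.mk _ (MvPolynomial.C ((Pi.single j (1 : R) : Fin k → R) i)) := by
    by_cases hij : i = j <;> simp [hij]
  rw [h]
  refine Ideal.Quotient.eq.mpr ?_
  exact Ideal.subset_span (Or.inr (Or.inr ⟨j, i, rfl⟩))

variable (R) in
/-- The universal point of the chart. -/
noncomputable def chartPt (x : Fin k → M) : Pt R M k (ChartRing R x) :=
  ofEll x (chartEll R x) (chartEll_x x)

lemma inChart_chartPt (x : Fin k → M) : InChart x (chartPt R x) := inChart_ofEll _ _ _

lemma ell_chartPt (x : Fin k → M) : (inChart_chartPt (R := R) x).ell = chartEll R x :=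
  ell_ofEll _

/-- The classifying map of a point in the chart of `x`. -/
noncomputable def chartDesc {x : Fin k → M} {N : Pt R M k A} (h : InChart x N) :
    ChartRing R x →ₐ[R] A :=
  Ideal.Quotient.liftₐ _ (MvPolynomial.aeval fun mi => h.ell mi.1 mi.2) fun a ha => by
    induction ha using Submodule.span_induction with
    | zero => simp
    | add p q _ _ hp hq => simp [hp, hq]
    | smul c p _ hp => simp [hp]
    | mem g hg =>
      rcases hg with ⟨m, m', i, rfl⟩ | ⟨r, m, i, rfl⟩ | ⟨j, i, rfl⟩
      · simp
      · simp [Algebra.smul_def]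
      · by_cases hij : i = j <;> simp [hij, h.ell_apply_x]

lemma chartDesc_chartEll {x : Fin k → M} {N : Pt R M k A} (h : InChart x N) (m : M) (i : Fin k) :
    chartDesc h (chartEll R x m i) = h.ell m i := by
  show MvPolynomial.aeval (R := R) (fun mi : M × Fin k => h.ell mi.1 mi.2)
    (MvPolynomial.X (m, i)) = _
  simp

lemma gmap_chartDesc {x : Fin k → M} {N : Pt R M k A} (h : InChart x N) :
    gmap (chartDesc h) (chartPt R x) = N := by
  refine ((inChart_chartPt x).gmap _).ext h (LinearMap.ext fun m => funext fun i => ?_)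
  rw [(inChart_chartPt x).ell_gmap]
  dsimp only
  rw [ell_chartPt, chartDesc_chartEll]

lemma chartHom_ext (x : Fin k → M) (φ ψ : ChartRing R x →ₐ[R] A)
    (h : gmap φ (chartPt R x) = gmap ψ (chartPt R x)) : φ = ψ := by
  refine Ideal.Quotient.algHom_ext _ (MvPolynomial.algHom_ext fun ⟨m, i⟩ => ?_)
  have key : ∀ {N N' : Pt R M k A} (hN : InChart x N) (hN' : InChart x N'), N = N' →
      hN.ell = hN'.ell := by rintro N N' hN hN' rfl; rfl
  have h1 := congr_fun (LinearMap.congr_fun
    (key ((inChart_chartPt x).gmap φ) ((inChart_chartPt x).gmap ψ) h) m) i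
  rw [(inChart_chartPt x).ell_gmap, (inChart_chartPt x).ell_gmap, ell_chartPt] at h1
  exact h1

omit [Module R M] in
/-- A map inverting `d` which is left cancellable and through which `A → A[1/d]` factors is a
localisation away from `d`. -/
lemma isLocalization_of_universal (φ : A →ₐ[R] B) (d : A) (hu : IsUnit (φ d))
    (back : B →ₐ[R] Localization.Away d)
    (hback : back.comp φ = IsScalarTower.toAlgHom R A (Localization.Away d))
    (hext : ∀ ψ χ : B →ₐ[R] B, ψ.comp φ = χ.comp φ → ψ = χ) :
    @IsLocalization.Away A _ d B _ φ.toRingHom.toAlgebra := by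
  let forth : Localization.Away d →ₐ[R] B := IsLocalization.liftAlgHom
    (M := Submonoid.powers d) (f := φ) (by
      rintro ⟨_, n, rfl⟩
      simp only [map_pow]
      exact hu.pow n)
  have hforth : forth.comp (IsScalarTower.toAlgHom R A _) = φ :=
    AlgHom.ext fun a => IsLocalization.lift_eq _ a
  have h1 : forth.comp back = AlgHom.id R _ :=
    hext _ _ (by rw [AlgHom.comp_assoc, hback, hforth, AlgHom.id_comp])
  have h2 : back.comp forth = AlgHom.id R _ := by
    refine AlgHom.coe_ringHom_injective
      (IsLocalization.ringHom_ext (Submonoid.powers d) ?_)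
    have h3 : (back.comp forth).comp (IsScalarTower.toAlgHom R A _) =
        IsScalarTower.toAlgHom R A (Localization.Away d) := by
      rw [AlgHom.comp_assoc, hforth, hback]
    exact congrArg AlgHom.toRingHom h3
  let e : Localization.Away d ≃ₐ[R] B := AlgEquiv.ofAlgHom forth back h1 h2
  letI := φ.toRingHom.toAlgebra
  exact IsLocalization.isLocalization_of_algEquiv (Submonoid.powers d)
    (AlgEquiv.ofRingEquiv (f := e.toRingEquiv) fun a => AlgHom.congr_fun hforth a)

variable (R M k) in
/-- Nonempty finite sets of charts. -/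
abbrev ChartSet := {S : Finset (Fin k → M) // S.Nonempty}

namespace ChartSet

variable (S : ChartSet M k)

/-- A chosen chart in `S`. -/
noncomputable def base : Fin k → M := S.2.choose

lemma base_mem : S.base ∈ S.1 := S.2.choose_spec

variable (R) in
/-- The element of the chart ring cutting out the intersection. -/
noncomputable def cutElt : ChartRing R S.base :=
  ∏ y ∈ S.1, (inChart_chartPt (R := R) S.base).det y

variable (R) in
/-- The coordinate ring of the intersection of the charts in `S`. -/
abbrev CRing : Type u := Localization.Away (cutElt R S)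

variable (R) in
/-- The universal point of the intersection. -/
noncomputable def pt : Pt R M k (CRing R S) :=
  gmap (IsScalarTower.toAlgHom R (ChartRing R S.base) (CRing R S)) (chartPt R S.base)

lemma inChart_pt_base : InChart S.base (pt R S) := (inChart_chartPt _).gmap _

lemma inChart_pt {y : Fin k → M} (hy : y ∈ S.1) : InChart y (pt R S) := by
  refine ((inChart_chartPt (R := R) S.base).gmap _).inChart_iff_isUnit_det y |>.mpr ?_
  rw [InChart.det_gmap]
  refine isUnit_of_dvd_unit (map_dvd _ (Finset.dvd_prod_of_mem _ hy)) ?_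
  exact IsLocalization.Away.algebraMap_isUnit (cutElt R S)

variable {S}

/-- The classifying map of a point in all charts of `S`. -/
noncomputable def desc {N : Pt R M k A} (h : ∀ y ∈ S.1, InChart y N) : CRing R S →ₐ[R] A :=
  IsLocalization.liftAlgHom (M := Submonoid.powers (cutElt R S))
    (f := chartDesc (h _ S.base_mem)) (by
      rintro ⟨_, n, rfl⟩
      simp only [map_pow]
      refine IsUnit.pow n ?_
      show IsUnit (chartDesc (h _ S.base_mem) (cutElt R S))
      rw [cutElt, map_prod, IsUnit.prod_iff]
      intro y hy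
      rw [← InChart.det_gmap, ← InChart.inChart_iff_isUnit_det, gmap_chartDesc]
      exact h y hy)

lemma desc_comp {N : Pt R M k A} (h : ∀ y ∈ S.1, InChart y N) :
    (desc h).comp (IsScalarTower.toAlgHom R (ChartRing R S.base) (CRing R S)) =
      chartDesc (h _ S.base_mem) :=
  AlgHom.ext fun a => IsLocalization.lift_eq _ a

lemma gmap_desc {N : Pt R M k A} (h : ∀ y ∈ S.1, InChart y N) :
    gmap (desc h) (pt R S) = N := by
  rw [pt, ← gmap_comp, desc_comp, gmap_chartDesc]

lemma hom_ext {φ ψ : CRing R S →ₐ[R] A} (h : gmap φ (pt R S) = gmap ψ (pt R S)) : φ = ψ := by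
  rw [pt, ← gmap_comp, ← gmap_comp] at h
  have h1 := chartHom_ext _ _ _ h
  refine AlgHom.coe_ringHom_injective
    (IsLocalization.ringHom_ext (Submonoid.powers (cutElt R S)) ?_)
  exact congrArg AlgHom.toRingHom h1

lemma inChart_gmap_pt (φ : CRing R S →ₐ[R] A) {y : Fin k → M} (hy : y ∈ S.1) :
    InChart y (gmap φ (pt R S)) := (S.inChart_pt hy).gmap φ

variable {T U : ChartSet M k}

/-- The restriction map between intersections. -/
noncomputable def res (h : S.1 ⊆ T.1) : CRing R S →ₐ[R] CRing R T :=
  desc (fun _ hy => T.inChart_pt (h hy))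

lemma gmap_res (h : S.1 ⊆ T.1) : gmap (res (R := R) h) (pt R S) = pt R T := gmap_desc _

lemma res_refl : res (R := R) (subset_refl S.1) = AlgHom.id R (CRing R S) :=
  hom_ext (by rw [gmap_res, gmap_id])

lemma res_trans (h : S.1 ⊆ T.1) (h' : T.1 ⊆ U.1) :
    res (R := R) (h.trans h') = (res h').comp (res h) :=
  hom_ext (by rw [gmap_res, gmap_comp, gmap_res, gmap_res])

lemma desc_res {N : Pt R M k A} (h : S.1 ⊆ T.1) (hN : ∀ y ∈ T.1, InChart y N) :
    (desc hN).comp (res (R := R) h) = desc (fun y hy => hN y (h hy)) :=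
  hom_ext (by rw [gmap_comp, gmap_res, gmap_desc, gmap_desc])

variable (R) (S T) in
/-- The element of `CRing S` cutting out the charts of `T`. -/
noncomputable def resElt : CRing R S :=
  ∏ y ∈ T.1, (S.inChart_pt_base (R := R)).det y

lemma isUnit_res_resElt (h : S.1 ⊆ T.1) : IsUnit (res (R := R) h (resElt R S T)) := by
  rw [resElt, map_prod, IsUnit.prod_iff]
  intro y hy
  rw [← InChart.det_gmap, ← InChart.inChart_iff_isUnit_det, gmap_res]
  exact T.inChart_pt hy

set_option maxHeartbeats 1000000 in
lemma isLocalization_res (h : S.1 ⊆ T.1) :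
    @IsLocalization.Away (CRing R S) _ (resElt R S T) (CRing R T) _
      (res (R := R) h).toRingHom.toAlgebra := by
  have hι : ∀ y ∈ T.1, InChart y (gmap (IsScalarTower.toAlgHom R (CRing R S)
      (Localization.Away (resElt R S T))) (pt R S)) := by
    intro y hy
    rw [((S.inChart_pt_base).gmap _).inChart_iff_isUnit_det, InChart.det_gmap]
    refine isUnit_of_dvd_unit (map_dvd _ (Finset.dvd_prod_of_mem _ hy)) ?_
    exact IsLocalization.Away.algebraMap_isUnit (resElt R S T)
  exact isLocalization_of_universal (res h) (resElt R S T) (isUnit_res_resElt h) (desc hι)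
    (hom_ext (by rw [gmap_comp, gmap_res, gmap_desc]))
    (fun ψ χ hψχ => hom_ext (by
      rw [← gmap_res (R := R) h, ← gmap_comp, ← gmap_comp, hψχ]))

end ChartSet

end Groth.Agent.GrassLib
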