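import Groth.Agent.Lib.Grass.Transport
import Groth.Agent.Lib.Grass.ClosedSub

/-!
# The locus of points of the Grassmannian stable under given endomorphisms
-/

set_option autoImplicit false
set_option backward.isDefEq.respectTransparency false
universe u

open TensorProduct Module CategoryTheory Limits AlgebraicGeometry

namespace Groth.Agent.GrassLib

variable {R : Type u} [CommRing R] {M : Type u} [AddCommGroup M] [Module R M] {k : ℕ}
variable {A B : Type u} [CommRing A] [Algebra R A] [CommRing B] [Algebra R B]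
variable {ι : Type*} (T : ι → M →ₗ[R] M)

/-- `N` is stable under all the `T i`. -/
def Stable (N : Pt R M k A) : Prop :=
  ∀ i, ∀ w ∈ N.toSubmodule, (T i).baseChange A w ∈ N.toSubmodule

/-- The ideal cutting out stability. -/
noncomputable def stIdeal (N : Pt R M k A) : Ideal A :=
  Ideal.span {a | ∃ i, ∃ w ∈ N.toSubmodule, ∃ f : Module.Dual A ((A ⊗[R] M) ⧸ N.toSubmodule),
    a = f (N.toSubmodule.mkQ ((T i).baseChange A w))}

lemma tm_baseChange (φ : A →ₐ[R] B) (S : M →ₗ[R] M) (w : A ⊗[R] M) :
    tm φ (S.baseChange A w) = S.baseChange B (tm φ w) := by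
  induction w using TensorProduct.induction_on with
  | zero => simp
  | tmul a m => simp
  | add p q hp hq => simp only [map_add, hp, hq]

lemma gmap_eq_span_aux [Algebra A B] [IsScalarTower R A B] (N : Pt R M k A) :
    (gmap (IsScalarTower.toAlgHom R A B) N).toSubmodule ≤
      Submodule.span B (tm (IsScalarTower.toAlgHom R A B) '' (N.toSubmodule : Set (A ⊗[R] M))) := by
  rw [gmap_toSubmodule]
  set S := Submodule.span B (tm (IsScalarTower.toAlgHom R A B) '' (N.toSubmodule : Set (A ⊗[R] M)))
  let α : A ⊗[R] M →ₗ[A] (B ⊗[R] M) ⧸ S :=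
    { toFun := fun v => S.mkQ (tm (IsScalarTower.toAlgHom R A B) v)
      map_add' := fun p q => by simp only [map_add]
      map_smul' := fun a v => by
        rw [tm_smul, IsScalarTower.coe_toAlgHom', map_smul, RingHom.id_apply, algebraMap_smul] }
  let β : ((A ⊗[R] M) ⧸ N.toSubmodule) →ₗ[A] (B ⊗[R] M) ⧸ S :=
    Submodule.liftQ N.toSubmodule α fun v hv => by
      rw [LinearMap.mem_ker]
      exact (Submodule.Quotient.mk_eq_zero S).mpr (Submodule.subset_span ⟨v, hv, rfl⟩)
  have key : (β.liftBaseChange B).comp (Module.Grassmannian.baseChangeMkQ B N.toSubmodule) =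
      S.mkQ := by
    ext m
    simp [Module.Grassmannian.baseChangeMkQ, β, α]
  intro w hw
  rw [← Submodule.Quotient.mk_eq_zero, ← Submodule.mkQ_apply, ← key, LinearMap.comp_apply,
    LinearMap.mem_ker.mp hw, map_zero]

lemma gmap_eq_span (φ : A →ₐ[R] B) (N : Pt R M k A) :
    (gmap φ N).toSubmodule = Submodule.span B (tm φ '' (N.toSubmodule : Set (A ⊗[R] M))) := by
  refine le_antisymm ?_ (Submodule.span_le.mpr ?_)
  · let _ : Algebra A B := φ.toAlgebra
    have : IsScalarTower R A B := IsScalarTower.of_algebraMap_eq' φ.comp_algebraMap.symm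
    exact gmap_eq_span_aux N
  · rintro _ ⟨v, hv, rfl⟩
    exact tm_mem_gmap φ hv

lemma one_tmul_eq_zero_iff [Algebra A B] {Q : Type u} [AddCommGroup Q] [Module A Q]
    [Module.Finite A Q] [Module.Projective A Q] (q : Q) :
    (1 : B) ⊗ₜ[A] q = 0 ↔ ∀ f : Module.Dual A Q, algebraMap A B (f q) = 0 := by
  constructor
  · intro h f
    have h2 : (Algebra.linearMap A B ∘ₗ f).liftBaseChange B ((1 : B) ⊗ₜ[A] q) = 0 := by
      rw [h, map_zero]
    simpa using h2
  · intro h
    obtain ⟨n, g, s, hg, -, hgs⟩ := Module.Finite.exists_comp_eq_id_of_projective A Q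
    have hq : q = ∑ i, s q i • g (Pi.single i 1) := by
      conv_lhs =>
        rw [← LinearMap.id_apply (R := A) q, ← hgs, LinearMap.comp_apply, pi_eq_sum_univ' (s q)]
      simp [map_sum]
    rw [hq, TensorProduct.tmul_sum]
    refine Finset.sum_eq_zero fun i _ => ?_
    rw [TensorProduct.tmul_smul, ← algebraMap_smul B,
      show algebraMap A B (s q i) = 0 from h ((LinearMap.proj i).comp s), zero_smul]

lemma stable_gmap_iff (φ : A →ₐ[R] B) (N : Pt R M k A) :
    Stable T (gmap φ N) ↔ (stIdeal T N).map φ.toRingHom = ⊥ := by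
  let _ : Algebra A B := φ.toAlgebra
  have : IsScalarTower R A B := IsScalarTower.of_algebraMap_eq' φ.comp_algebraMap.symm
  have hφ : φ = IsScalarTower.toAlgHom R A B := rfl
  have key : ∀ i w, (T i).baseChange B (tm φ w) ∈ (gmap φ N).toSubmodule ↔
      ∀ f : Module.Dual A ((A ⊗[R] M) ⧸ N.toSubmodule),
        φ (f (N.toSubmodule.mkQ ((T i).baseChange A w))) = 0 := by
    intro i w
    rw [← tm_baseChange, hφ, gmap_toSubmodule, LinearMap.mem_ker, baseChangeMkQ_tm,
      one_tmul_eq_zero_iff]
    rfl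
  rw [stIdeal, Ideal.map_span, Ideal.span_eq_bot]
  constructor
  · rintro h _ ⟨a, ⟨i, w, hw, f, rfl⟩, rfl⟩
    exact (key i w).mp (h i _ (tm_mem_gmap φ hw)) f
  · intro h i w hw
    rw [gmap_eq_span] at hw
    induction hw using Submodule.span_induction with
    | mem x hx =>
      obtain ⟨v, hv, rfl⟩ := hx
      exact (key i v).mpr fun f => h _ ⟨_, ⟨i, v, hv, f, rfl⟩, rfl⟩
    | zero => simp
    | add p q _ _ hp hq => rw [map_add]; exact add_mem hp hq
    | smul c p _ hp => rw [map_smul]; exact Submodule.smul_mem _ c hp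

lemma stable_iff (N : Pt R M k A) : Stable T N ↔ stIdeal T N = ⊥ := by
  have h := stable_gmap_iff T (AlgHom.id R A) N
  rw [gmap_id] at h
  rw [h]
  exact iff_of_eq (congrArg (· = ⊥) (Ideal.map_id _))

lemma map_stIdeal (φ : A →ₐ[R] B) (N : Pt R M k A) :
    (stIdeal T N).map φ.toRingHom = stIdeal T (gmap φ N) := by
  have key : ∀ J : Ideal B, (stIdeal T N).map φ.toRingHom ≤ J ↔ stIdeal T (gmap φ N) ≤ J := by
    intro J
    have h1 := stable_gmap_iff T ((Ideal.Quotient.mkₐ R J).comp φ) N
    have h2 := stable_gmap_iff T (Ideal.Quotient.mkₐ R J) (gmap φ N)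
    rw [gmap_comp, h2] at h1
    rw [show ((Ideal.Quotient.mkₐ R J).comp φ).toRingHom =
      (Ideal.Quotient.mkₐ R J).toRingHom.comp φ.toRingHom from rfl, ← Ideal.map_map] at h1
    have hk : ∀ I : Ideal B, I.map (Ideal.Quotient.mkₐ R J).toRingHom = ⊥ ↔ I ≤ J := fun I =>
      (Ideal.map_eq_bot_iff_le_ker _).trans (by
        rw [show RingHom.ker (Ideal.Quotient.mkₐ R J).toRingHom = J from Ideal.mk_ker])
    rw [hk, hk] at h1
    exact h1.symm
  exact le_antisymm ((key _).mpr le_rfl) ((key _).mp le_rfl)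

variable {X : Over (Spec (CommRingCat.of R))} (hX : Rep R M k X)

/-- The algebra structure given by a morphism to the base. -/
@[reducible] noncomputable def algOf {C : CommRingCat.{u}} (h : Spec C ⟶ X.left) : Algebra R C :=
  (exists_algebra_str (R := R) (h ≫ X.hom)).choose

lemma str_algOf {C : CommRingCat.{u}} (h : Spec C ⟶ X.left) :
    letI := algOf h
    h ≫ X.hom = str R C :=
  (exists_algebra_str (R := R) (h ≫ X.hom)).choose_spec.symm

/-- The stability ideals on affine test schemes. -/
noncomputable def stFamily : IdealFamily X.left where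
  J {C} h := letI := algOf h; stIdeal T (hX.pt h (str_algOf h))
  map_J {C D} h φ := by
    letI := algOf h
    letI := algOf (Spec.map φ ≫ h)
    have hc : φ.hom.comp (algebraMap R C) = algebraMap R D := by
      have h1 : Spec.map φ ≫ str R C = str R D := by
        rw [← str_algOf h, ← Category.assoc, ← str_algOf (Spec.map φ ≫ h)]
      rw [str, str, ← Spec.map_comp] at h1
      exact congrArg CommRingCat.Hom.hom (Spec.map_injective h1)
    let ψ : C →ₐ[R] D := { φ.hom with commutes' := fun r => RingHom.congr_fun hc r }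
    show (stIdeal T (hX.pt h (str_algOf h))).map ψ.toRingHom = _
    rw [map_stIdeal]
    congr 1
    refine hX.mor_injective ?_
    rw [← hX.sp_mor, hX.mor_pt, hX.mor_pt]
    rfl

lemma stFamily_J_eq_bot_iff {A : Type u} [CommRing A] [iA : Algebra R A]
    (g : Spec (CommRingCat.of A) ⟶ X.left) (hg : g ≫ X.hom = str R A) :
    (stFamily T hX).J g = ⊥ ↔ Stable T (hX.pt g hg) := by
  have h : algOf g = iA := by
    refine Algebra.algebra_ext _ _ fun r => ?_
    have h1 := (str_algOf g).symm.trans hg
    exact RingHom.congr_fun (congrArg CommRingCat.Hom.hom (Spec.map_injective h1)) r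
  let P := Stable T (hX.pt g hg)
  have key : ∀ (i : Algebra R A) (hi : g ≫ X.hom = @str R _ A _ i), i = iA →
      ((letI := i; stIdeal T (hX.pt g hi) = ⊥) ↔ P) := by
    rintro i hi rfl
    exact (stable_iff T _).symm
  exact key _ (str_algOf g) h

/-- The closed subscheme of stable points. -/
theorem exists_closed_stable : ∃ (Z : Scheme.{u}) (j : Z ⟶ X.left), IsClosedImmersion j ∧
    ∀ (A : Type u) [CommRing A] [Algebra R A] (g : Spec (CommRingCat.of A) ⟶ X.left)
      (hg : g ≫ X.hom = str R A),
      (∃ h : Spec (CommRingCat.of A) ⟶ Z, h ≫ j = g) ↔ Stable T (hX.pt g hg) :=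
  ⟨_, (stFamily T hX).idealSheaf.subschemeι, inferInstance, fun _ _ _ g hg =>
    ((stFamily T hX).factors_iff g).trans (stFamily_J_eq_bot_iff T hX g hg)⟩

end Groth.Agent.GrassLib
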